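import Mathlib

/-!
Functions constant on the suborbits of a primitive group containing a regular dihedral subgroup
(the transitivity module), and their coordinates in the group algebra of the cyclic half.
-/

set_option autoImplicit false
set_option linter.unusedSectionVars false

namespace CfsgLib.Perm.DihedralBGroup

variable {m : ℕ} [NeZero m]

/-- Functions constant on the suborbits. -/
def Inv {α : Type*} (K : Subgroup (Equiv.Perm (DihedralGroup m))) (f : DihedralGroup m → α) : Prop :=
  ∀ h ∈ K, h 1 = 1 → ∀ x, f (h x) = f x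

/-- The standing hypotheses: the left regular representation lies in `K`, no proper nontrivial
subgroup is invariant under the stabilizer of `1`, and the rotations are nontrivial. -/
structure Hyp (K : Subgroup (Equiv.Perm (DihedralGroup m))) : Prop where
  two_le : 2 ≤ m
  left : ∀ d : DihedralGroup m, Equiv.mulLeft d ∈ K
  prim : ∀ U : Subgroup (DihedralGroup m),
    (∀ h ∈ K, h 1 = 1 → ∀ x ∈ U, h x ∈ U) → U = ⊥ ∨ U = ⊤

variable {K : Subgroup (Equiv.Perm (DihedralGroup m))}

theorem Inv.comp {α β : Type*} {f : DihedralGroup m → α} (hf : Inv K f) (g : α → β) :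
    Inv K fun x => g (f x) := fun h hh h1 x => congrArg g (hf h hh h1 x)

theorem Inv.comp₂ {α β γ : Type*} {f : DihedralGroup m → α} {f' : DihedralGroup m → β}
    (hf : Inv K f) (hf' : Inv K f') (g : α → β → γ) : Inv K fun x => g (f x) (f' x) :=
  fun h hh h1 x => by simp only [hf h hh h1 x, hf' h hh h1 x]

theorem inv_const {α : Type*} (a : α) : Inv K fun _ => a := fun _ _ _ _ => rfl

theorem inv_delta {α : Type*} (a b : α) : Inv K fun x => if x = 1 then a else b := by
  intro h hh h1 x
  have hiff : h x = 1 ↔ x = 1 := ⟨fun e => h.injective (e.trans h1.symm), fun e => e ▸ h1⟩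
  simp only [hiff]

theorem Hyp.inv_sub (H : Hyp K) {α : Type*} {f : DihedralGroup m → α} (hf : Inv K f)
    {σ : Equiv.Perm (DihedralGroup m)} (hσ : σ ∈ K) (x y : DihedralGroup m) :
    f ((σ y)⁻¹ * σ x) = f (y⁻¹ * x) := by
  have h1 : (Equiv.mulLeft (σ y)⁻¹ * σ * Equiv.mulLeft y) 1 = 1 := by simp
  have := hf _ (K.mul_mem (K.mul_mem (H.left _) hσ) (H.left y)) h1 (y⁻¹ * x)
  simpa using this

/-- An invariant set generates a trivial subgroup or everything. -/
theorem Hyp.closure_eq (H : Hyp K) {P : DihedralGroup m → Prop} (hP : Inv K P) :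
    Subgroup.closure {x | P x} = ⊥ ∨ Subgroup.closure {x | P x} = ⊤ := by
  refine H.prim _ fun h hh h1 x hx => ?_
  induction hx using Subgroup.closure_induction_right with
  | one => rw [h1]; exact one_mem _
  | mul_right x hx y hy ih =>
    have h2 : P ((h x)⁻¹ * h (x * y)) := by
      rw [H.inv_sub hP hh]; simpa using hy
    have := mul_mem ih (Subgroup.subset_closure h2)
    simpa using this
  | mul_inv_cancel x hx y hy ih =>
    have h2 : P ((h (x * y⁻¹))⁻¹ * h x) := by
      rw [H.inv_sub hP hh]; simpa using hy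
    have := mul_mem ih (inv_mem (Subgroup.subset_closure h2))
    simpa using this

/-- The rotations. -/
def rot (m : ℕ) [NeZero m] : Subgroup (DihedralGroup m) where
  carrier := Set.range DihedralGroup.r
  mul_mem' := by
    rintro _ _ ⟨i, rfl⟩ ⟨j, rfl⟩
    exact ⟨i + j, (DihedralGroup.r_mul_r i j).symm⟩
  one_mem' := ⟨0, DihedralGroup.r_zero⟩
  inv_mem' := by
    rintro _ ⟨i, rfl⟩
    exact ⟨-i, (DihedralGroup.inv_r i).symm⟩

theorem sr_notMem_rot (i : ZMod m) : DihedralGroup.sr i ∉ rot m := by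
  rintro ⟨j, hj⟩
  simp at hj

/-- An invariant set not containing `1` inside a proper subgroup is empty. -/
theorem Hyp.eq_empty_of_subset (H : Hyp K) {P : DihedralGroup m → Prop} (hP : Inv K P)
    (h1 : ¬ P 1) {U : Subgroup (DihedralGroup m)} (hU : U ≠ ⊤) (hPU : ∀ x, P x → x ∈ U)
    (x : DihedralGroup m) : ¬ P x := by
  intro hx
  rcases H.closure_eq hP with hb | ht
  · exact h1 ((Subgroup.mem_bot.1 (hb ▸ Subgroup.subset_closure hx)) ▸ hx)
  · refine hU (eq_top_iff.2 (ht ▸ ?_))
    exact (Subgroup.closure_le U).2 hPU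

theorem rot_ne_top : rot m ≠ ⊤ := fun h => sr_notMem_rot (0 : ZMod m) (h ▸ Subgroup.mem_top _)

theorem Hyp.exists_sr (H : Hyp K) {P : DihedralGroup m → Prop} (hP : Inv K P) (h1 : ¬ P 1)
    {x : DihedralGroup m} (hx : P x) : ∃ i, P (DihedralGroup.sr i) := by
  by_contra hno
  push Not at hno
  refine H.eq_empty_of_subset hP h1 rot_ne_top (fun y hy => ?_) x hx
  cases y with
  | r i => exact ⟨i, rfl⟩
  | sr i => exact absurd hy (hno i)

theorem sum_dihedral {α : Type*} [AddCommMonoid α] (f : DihedralGroup m → α) :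
    ∑ d, f d = (∑ i, f (DihedralGroup.r i)) + ∑ i, f (DihedralGroup.sr i) := by
  rw [← DihedralGroup.equivSum.symm.sum_comp f, Fintype.sum_sum_type]
  rfl

theorem Hyp.corr (H : Hyp K) {R : Type*} [CommSemiring R] {f g : DihedralGroup m → R}
    (hf : Inv K f) (hg : Inv K g) : Inv K fun x => ∑ y, f y * g (x⁻¹ * y) := by
  intro h hh h1 x
  refine (Fintype.sum_equiv h (fun y => f y * g (x⁻¹ * y))
    (fun y => f y * g ((h x)⁻¹ * y)) fun y => ?_).symm
  rw [hf h hh h1, H.inv_sub hg hh]

/-- Every suborbit meets the rotations. -/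
theorem Hyp.exists_rot (H : Hyp K) (x : DihedralGroup m) :
    ∃ h ∈ K, h 1 = 1 ∧ ∃ i, h x = DihedralGroup.r i := by
  classical
  by_contra hno
  push Not at hno
  let S : DihedralGroup m → Prop := fun y => ∃ h ∈ K, h 1 = 1 ∧ h x = y
  have hS : Inv K S := by
    intro k hk k1 y
    refine propext ⟨?_, ?_⟩
    · rintro ⟨h, hh, h1, hy⟩
      refine ⟨k⁻¹ * h, K.mul_mem (K.inv_mem hk) hh, ?_, ?_⟩
      · rw [Equiv.Perm.mul_apply, h1, Equiv.Perm.inv_eq_iff_eq, k1]
      · rw [Equiv.Perm.mul_apply, hy, Equiv.Perm.inv_eq_iff_eq]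
    · rintro ⟨h, hh, h1, rfl⟩
      exact ⟨k * h, K.mul_mem hk hh, by rw [Equiv.Perm.mul_apply, h1, k1], rfl⟩
  have hxS : S x := ⟨1, K.one_mem, rfl, rfl⟩
  have hSr : ∀ i, ¬ S (DihedralGroup.r i) := fun i ⟨h, hh, h1, hy⟩ => hno h hh h1 i hy
  -- the correlation lives on rotations, so it is concentrated at `1`
  let ind : DihedralGroup m → ℕ := fun y => if S y then 1 else 0
  have hind : Inv K ind := fun h hh h1 y => by
    simp only [ind, hS h hh h1 y]
  let P : DihedralGroup m → Prop := fun d => d ≠ 1 ∧ (∑ y, ind y * ind (d⁻¹ * y)) ≠ 0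
  have hP : Inv K P := (inv_delta False True).comp₂ (H.corr hind hind)
    (fun p n => p ∧ n ≠ 0) |> fun h => by
    intro k hk k1 d
    have := h k hk k1 d
    simpa [P, ne_eq] using this
  have hPrange : ∀ d, ¬ P d := by
    refine fun d => H.eq_empty_of_subset hP (fun h => h.1 rfl) rot_ne_top (fun e he => ?_) d
    cases e with
    | r i => exact ⟨i, rfl⟩
    | sr j =>
      refine absurd ?_ he.2
      refine Finset.sum_eq_zero fun y _ => ?_
      cases y with
      | r i => simp [ind, hSr i]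
      | sr i => simp [ind, DihedralGroup.inv_sr, DihedralGroup.sr_mul_sr, hSr]
  have honly : ∀ y, S y → y = x := by
    intro y hy
    by_contra hne
    refine hPrange (y * x⁻¹) ⟨fun e => hne (mul_inv_eq_one.1 e), fun h0 => ?_⟩
    have := Finset.sum_eq_zero_iff.1 h0 y (Finset.mem_univ _)
    simp [ind, hy, hxS] at this
  have hfix : ∀ h ∈ K, h 1 = 1 → h x = x := fun h hh h1 => honly _ ⟨h, hh, h1, rfl⟩
  cases x with
  | r i => exact hSr i hxS
  | sr j =>
    have hsq : (DihedralGroup.sr j)⁻¹ = DihedralGroup.sr j := DihedralGroup.inv_sr j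
    have hP' : Inv K fun y => y = DihedralGroup.sr j := by
      intro h hh h1 y
      exact propext ⟨fun e => h.injective (e.trans (hfix h hh h1).symm), fun e => e ▸ hfix h hh h1⟩
    rcases H.closure_eq hP' with hb | ht
    · have : DihedralGroup.sr j ∈ (⊥ : Subgroup (DihedralGroup m)) :=
        hb ▸ Subgroup.subset_closure rfl
      rw [Subgroup.mem_bot, DihedralGroup.one_def] at this
      exact nomatch this
    · have h2 : Nat.card (Subgroup.zpowers (DihedralGroup.sr j)) = 2 := by
        rw [Nat.card_zpowers, DihedralGroup.orderOf_sr]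
      rw [show {y | y = DihedralGroup.sr j} = ({DihedralGroup.sr j} : Set _) from
        Set.ofPred_eq_eq_singleton, ← Subgroup.zpowers_eq_closure] at ht
      rw [ht, Subgroup.card_top, DihedralGroup.nat_card] at h2
      have := H.two_le
      omega

/-- An invariant function is determined by its values on the rotations. -/
theorem Hyp.eq_of_rot (H : Hyp K) {α : Type*} {f g : DihedralGroup m → α} (hf : Inv K f)
    (hg : Inv K g) (h : ∀ i, f (DihedralGroup.r i) = g (DihedralGroup.r i)) : f = g := by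
  funext x
  obtain ⟨k, hk, k1, i, hi⟩ := H.exists_rot x
  rw [← hf k hk k1 x, ← hg k hk k1 x, hi, h]

theorem Hyp.inv_inv_arg (H : Hyp K) {α : Type*} {f : DihedralGroup m → α} (hf : Inv K f) :
    Inv K fun x => f x⁻¹ := fun h hh h1 x => by
  have := H.inv_sub hf hh 1 x
  simpa [h1] using this

/-- Invariant functions are symmetric. -/
theorem Hyp.symm (H : Hyp K) {α : Type*} {f : DihedralGroup m → α} (hf : Inv K f)
    (x : DihedralGroup m) : f x⁻¹ = f x := by
  by_contra hne
  refine H.eq_empty_of_subset (P := fun y => f y⁻¹ ≠ f y)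
    ((H.inv_inv_arg hf).comp₂ hf (· ≠ ·)) (by simp) rot_ne_top (fun y hy => ?_) x hne
  cases y with
  | r i => exact ⟨i, rfl⟩
  | sr i => simp [DihedralGroup.inv_sr] at hy

/-- A nonconstant invariant function has no nontrivial right period. -/
theorem Hyp.no_period (H : Hyp K) {α : Type*} {f : DihedralGroup m → α} (hf : Inv K f)
    {s : DihedralGroup m} (hs1 : s ≠ 1) (hs : ∀ x, f (x * s) = f x) (x y : DihedralGroup m) :
    f x = f y := by
  let U : Subgroup (DihedralGroup m) :=
    { carrier := {t | ∀ z, f (z * t) = f z}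
      mul_mem' := fun {a b} ha hb z => by rw [← mul_assoc, hb, ha]
      one_mem' := fun z => by rw [mul_one]
      inv_mem' := fun {a} ha z => by
        have := ha (z * a⁻¹)
        rw [mul_assoc, inv_mul_cancel, mul_one] at this
        exact this.symm }
  have hU : ∀ h ∈ K, h 1 = 1 → ∀ t ∈ U, h t ∈ U := by
    intro h hh h1 t ht z
    obtain ⟨v, hv⟩ := h.surjective z⁻¹
    have e1 := H.inv_sub hf hh t v
    have e2 := H.inv_sub hf hh 1 v
    rw [hv, inv_inv] at e1 e2
    rw [h1, mul_one, mul_one] at e2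
    rw [e1, e2]
    exact ht v⁻¹
  rcases H.prim U hU with hb | ht
  · exact absurd (Subgroup.mem_bot.1 (hb ▸ (show s ∈ U from hs))) hs1
  · have := (show x⁻¹ * y ∈ U from ht ▸ Subgroup.mem_top _) x
    rw [mul_inv_cancel_left] at this
    exact this.symm

/-! ### The two coordinates -/

section Algebra

variable {R : Type*} [CommRing R]

/-- The rotation part. -/
noncomputable def c1 (x : MonoidAlgebra R (DihedralGroup m)) : AddMonoidAlgebra R (ZMod m) :=
  .ofCoeff (Finsupp.equivFunOnFinite.symm fun i => x.coeff (DihedralGroup.r i))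

/-- The reflection part. -/
noncomputable def c2 (x : MonoidAlgebra R (DihedralGroup m)) : AddMonoidAlgebra R (ZMod m) :=
  .ofCoeff (Finsupp.equivFunOnFinite.symm fun i => x.coeff (DihedralGroup.sr i))

/-- The inversion of the cyclic group. -/
noncomputable def rev (a : AddMonoidAlgebra R (ZMod m)) : AddMonoidAlgebra R (ZMod m) :=
  .ofCoeff (Finsupp.equivFunOnFinite.symm fun i => a.coeff (-i))

@[simp] theorem c1_coeff (x : MonoidAlgebra R (DihedralGroup m)) (i : ZMod m) :
    (c1 x).coeff i = x.coeff (DihedralGroup.r i) := rfl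

@[simp] theorem c2_coeff (x : MonoidAlgebra R (DihedralGroup m)) (i : ZMod m) :
    (c2 x).coeff i = x.coeff (DihedralGroup.sr i) := rfl

@[simp] theorem rev_coeff (a : AddMonoidAlgebra R (ZMod m)) (i : ZMod m) :
    (rev a).coeff i = a.coeff (-i) := rfl

theorem c1_add (x y : MonoidAlgebra R (DihedralGroup m)) : c1 (x + y) = c1 x + c1 y := by
  ext i; simp

theorem c1_sub (x y : MonoidAlgebra R (DihedralGroup m)) : c1 (x - y) = c1 x - c1 y := by
  ext i; simp

theorem c2_add (x y : MonoidAlgebra R (DihedralGroup m)) : c2 (x + y) = c2 x + c2 y := by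
  ext i; simp

theorem coeff_mul' {G : Type*} [Group G] [Fintype G] (x y : MonoidAlgebra R G) (d : G) :
    (x * y).coeff d = ∑ e, x.coeff e * y.coeff (e⁻¹ * d) := by
  classical
  rw [MonoidAlgebra.coeff_mul, Finsupp.sum_fintype _ _ (by intro; simp)]
  refine Finset.sum_congr rfl fun e _ => ?_
  rw [Finsupp.sum_fintype _ _ (by intro; simp), Finset.sum_eq_single (e⁻¹ * d)]
  · simp
  · intro b _ hb
    rw [if_neg]
    rintro rfl
    simp at hb
  · simp

theorem coeff_mul_add {G : Type*} [AddGroup G] [Fintype G] (x y : AddMonoidAlgebra R G) (d : G) :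
    (x * y).coeff d = ∑ e, x.coeff e * y.coeff (-e + d) := by
  classical
  rw [AddMonoidAlgebra.coeff_mul, Finsupp.sum_fintype _ _ (by intro; simp)]
  refine Finset.sum_congr rfl fun e _ => ?_
  rw [Finsupp.sum_fintype _ _ (by intro; simp), Finset.sum_eq_single (-e + d)]
  · simp
  · intro b _ hb
    rw [if_neg]
    rintro rfl
    simp at hb
  · simp

theorem rev_mul_coeff (a b : AddMonoidAlgebra R (ZMod m)) (k : ZMod m) :
    (rev a * b).coeff k = ∑ i, a.coeff i * b.coeff (i + k) := by
  rw [coeff_mul_add]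
  exact Fintype.sum_equiv (Equiv.neg _) _ _ fun i => by simp

theorem c1_mul (x y : MonoidAlgebra R (DihedralGroup m)) :
    c1 (x * y) = c1 x * c1 y + rev (c2 x) * c2 y := by
  ext k
  rw [c1_coeff, coeff_mul', sum_dihedral, AddMonoidAlgebra.coeff_add, Finsupp.add_apply,
    coeff_mul_add, rev_mul_coeff]
  simp [DihedralGroup.inv_r, DihedralGroup.r_mul_r, DihedralGroup.inv_sr, DihedralGroup.sr_mul_r]

theorem c2_mul (x y : MonoidAlgebra R (DihedralGroup m)) :
    c2 (x * y) = rev (c1 x) * c2 y + c2 x * c1 y := by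
  ext k
  rw [c2_coeff, coeff_mul', sum_dihedral, AddMonoidAlgebra.coeff_add, Finsupp.add_apply,
    coeff_mul_add (c2 x), rev_mul_coeff]
  simp [DihedralGroup.inv_r, DihedralGroup.r_mul_sr, DihedralGroup.inv_sr,
    DihedralGroup.sr_mul_sr, sub_eq_add_neg, add_comm]

theorem c1_one : c1 (1 : MonoidAlgebra R (DihedralGroup m)) = 1 := by
  classical
  ext i
  rw [c1_coeff, MonoidAlgebra.one_def, AddMonoidAlgebra.one_def, MonoidAlgebra.coeff_single,
    AddMonoidAlgebra.coeff_single, Finsupp.single_apply, Finsupp.single_apply,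
    ← DihedralGroup.r_zero]
  simp only [DihedralGroup.r.injEq]

theorem c2_one : c2 (1 : MonoidAlgebra R (DihedralGroup m)) = 0 := by
  classical
  ext i
  rw [c2_coeff, MonoidAlgebra.one_def, MonoidAlgebra.coeff_single, Finsupp.single_apply, if_neg]
  · simp
  · rw [DihedralGroup.one_def]; exact fun h => nomatch h

/-- Elements of the transitivity module. -/
def InvE (K : Subgroup (Equiv.Perm (DihedralGroup m))) (x : MonoidAlgebra R (DihedralGroup m)) :
    Prop :=
  Inv K fun d => x.coeff d

theorem invE_one : InvE K (1 : MonoidAlgebra R (DihedralGroup m)) := by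
  classical
  intro h hh h1 x
  have := inv_delta (K := K) (1 : R) 0 h hh h1 x
  simpa [MonoidAlgebra.one_def, Finsupp.single_apply, eq_comm] using this

theorem InvE.add {x y : MonoidAlgebra R (DihedralGroup m)} (hx : InvE K x) (hy : InvE K y) :
    InvE K (x + y) := fun h hh h1 d => by simp [hx h hh h1 d, hy h hh h1 d]

theorem InvE.sub {x y : MonoidAlgebra R (DihedralGroup m)} (hx : InvE K x) (hy : InvE K y) :
    InvE K (x - y) := fun h hh h1 d => by simp [hx h hh h1 d, hy h hh h1 d]

theorem Hyp.invE_mul (H : Hyp K) {x y : MonoidAlgebra R (DihedralGroup m)} (hx : InvE K x)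
    (hy : InvE K y) : InvE K (x * y) := by
  intro h hh h1 d
  show (x * y).coeff (h d) = (x * y).coeff d
  rw [coeff_mul', coeff_mul']
  refine (Fintype.sum_equiv h (fun e => x.coeff e * y.coeff (e⁻¹ * d))
    (fun e => x.coeff e * y.coeff (e⁻¹ * h d)) fun e => ?_).symm
  rw [show x.coeff (h e) = x.coeff e from hx h hh h1 e,
    show y.coeff ((h e)⁻¹ * h d) = y.coeff (e⁻¹ * d) from H.inv_sub hy hh d e]

theorem Hyp.invE_pow (H : Hyp K) {x : MonoidAlgebra R (DihedralGroup m)} (hx : InvE K x) :
    ∀ n : ℕ, InvE K (x ^ n)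
  | 0 => by rw [pow_zero]; exact invE_one
  | n + 1 => by rw [pow_succ]; exact H.invE_mul (H.invE_pow hx n) hx

theorem Hyp.invE_comm (H : Hyp K) {x y : MonoidAlgebra R (DihedralGroup m)} (hx : InvE K x)
    (hy : InvE K y) : x * y = y * x := by
  ext d
  rw [show (x * y).coeff d = (x * y).coeff d⁻¹ from (H.symm (H.invE_mul hx hy) d).symm,
    coeff_mul', coeff_mul']
  refine Fintype.sum_equiv ((Equiv.mulLeft d).trans (Equiv.refl _)) _ _ fun e => ?_
  simp only [Equiv.trans_apply, Equiv.coe_mulLeft, Equiv.refl_apply]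
  rw [mul_comm (y.coeff (d * e)), ← (show x.coeff ((d * e)⁻¹ * d)⁻¹ = _ from H.symm hx _),
    ← (show y.coeff (d * e)⁻¹ = _ from H.symm hy _)]
  simp [mul_assoc]

theorem Hyp.rev_c1 (H : Hyp K) {x : MonoidAlgebra R (DihedralGroup m)} (hx : InvE K x) :
    rev (c1 x) = c1 x := by
  ext i
  simpa [DihedralGroup.inv_r] using H.symm hx (DihedralGroup.r i)

theorem Hyp.invE_ext (H : Hyp K) {x y : MonoidAlgebra R (DihedralGroup m)} (hx : InvE K x)
    (hy : InvE K y) (h : c1 x = c1 y) : x = y := by
  have := H.eq_of_rot hx hy fun i => by rw [← c1_coeff, ← c1_coeff, h]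
  ext d
  exact congrFun this d

theorem Hyp.c2_mul_sym (H : Hyp K) {x : MonoidAlgebra R (DihedralGroup m)} (hx : InvE K x)
    (y : MonoidAlgebra R (DihedralGroup m)) : c2 (x * y) = c1 x * c2 y + c2 x * c1 y := by
  rw [c2_mul, H.rev_c1 hx]

/-- Powers in coordinates. -/
theorem Hyp.coord_pow (H : Hyp K) {x : MonoidAlgebra R (DihedralGroup m)} (hx : InvE K x) :
    ∀ j : ℕ, c1 (x ^ j) =
        ((⟨c1 x, 1⟩ : QuadraticAlgebra _ (rev (c2 x) * c2 x) 0) ^ j).re ∧
      c2 (x ^ j) =
        ((⟨c1 x, 1⟩ : QuadraticAlgebra _ (rev (c2 x) * c2 x) 0) ^ j).im * c2 x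
  | 0 => by simp [c1_one, c2_one, QuadraticAlgebra.re_one, QuadraticAlgebra.im_one]
  | j + 1 => by
    obtain ⟨ih1, ih2⟩ := H.coord_pow hx j
    rw [pow_succ' x, c1_mul, H.c2_mul_sym hx, ih1, ih2, pow_succ',
      QuadraticAlgebra.re_mul, QuadraticAlgebra.im_mul]
    constructor <;> ring

end Algebra

end CfsgLib.Perm.DihedralBGroup
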