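import Cfsg.Agent.Lib.Perm.DihedralBGroup.Rational

/-!
A rational subset `T` of a finite cyclic group, not containing `0`, with `T ^ 3 = β ^ 2 T + c G` in
the group ring has `β` elements or misses exactly `β` elements.
-/

set_option autoImplicit false
set_option linter.unusedSectionVars false
set_option linter.unusedSimpArgs false
set_option linter.style.haveILetI false

namespace CfsgLib.Perm.DihedralBGroup

open AddMonoidAlgebra (single coeff_single)

section Ring

variable {R : Type*} [CommRing R] {h : ℕ} [NeZero h]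

/-- The element with given coefficients. -/
noncomputable def el (f : ZMod h → R) : AddMonoidAlgebra R (ZMod h) :=
  .ofCoeff (Finsupp.equivFunOnFinite.symm f)

@[simp] theorem el_coeff (f : ZMod h → R) (x : ZMod h) : (el f).coeff x = f x := rfl

theorem eq_sum_single (a : AddMonoidAlgebra R (ZMod h)) :
    a = ∑ x, single x (a.coeff x) := by
  classical
  ext x
  simp [Finsupp.single_apply]

/-- The sum of the coefficients. -/
noncomputable def aug : AddMonoidAlgebra R (ZMod h) →+* R where
  toFun a := ∑ x, a.coeff x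
  map_one' := by
    classical
    simp [AddMonoidAlgebra.one_def, Finsupp.single_apply]
  map_zero' := by simp
  map_add' a b := by simp [Finset.sum_add_distrib]
  map_mul' a b := by
    simp only [coeff_mul_add]
    rw [Finset.sum_comm, Finset.sum_mul]
    refine Finset.sum_congr rfl fun e _ => ?_
    rw [← Finset.mul_sum]
    congr 1
    exact Fintype.sum_equiv (Equiv.addLeft (-e)) _ _ fun d => rfl

theorem aug_apply (a : AddMonoidAlgebra R (ZMod h)) : aug a = ∑ x, a.coeff x := rfl

/-- The sum of all group elements. -/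
noncomputable def allE (R : Type*) [CommRing R] (h : ℕ) [NeZero h] : AddMonoidAlgebra R (ZMod h) :=
  el fun _ => 1

@[simp] theorem allE_coeff (x : ZMod h) : (allE R h).coeff x = 1 := rfl

theorem aug_allE : aug (allE R h) = (h : R) := by
  simp [aug_apply, allE]

theorem mul_allE (a : AddMonoidAlgebra R (ZMod h)) : a * allE R h = aug a • allE R h := by
  ext x
  rw [coeff_mul_add]
  simp [aug_apply, Finset.sum_mul]

theorem smul_mul_coeff (r : R) (a : AddMonoidAlgebra R (ZMod h)) (x : ZMod h) :
    (r • a).coeff x = r * a.coeff x := by simp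

/-- The indicator element of a set. -/
noncomputable def indE (R : Type*) [CommRing R] (T : Finset (ZMod h)) :
    AddMonoidAlgebra R (ZMod h) :=
  el fun x => if x ∈ T then 1 else 0

theorem aug_smul (r : R) (a : AddMonoidAlgebra R (ZMod h)) : aug (r • a) = r * aug a := by
  simp [aug_apply, Finset.mul_sum]

theorem aug_indE (T : Finset (ZMod h)) : aug (indE R T) = (T.card : R) := by
  simp [aug_apply, indE, Finset.sum_ite_mem]

end Ring

theorem order_add_torsion {h p : ℕ} [NeZero h] {e z : ZMod h} (hpe : p ∣ addOrderOf (p • e))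
    (hz : p • z = 0) : addOrderOf (e + z) = addOrderOf e := by
  refine Nat.dvd_antisymm ?_ ?_
  · refine addOrderOf_dvd_of_nsmul_eq_zero ?_
    obtain ⟨t, ht⟩ : p ∣ addOrderOf e := hpe.trans (addOrderOf_dvd_iff_nsmul_eq_zero.2
      (by rw [smul_comm, addOrderOf_nsmul_eq_zero, smul_zero]))
    rw [nsmul_add, addOrderOf_nsmul_eq_zero, zero_add, ht, mul_comm, mul_nsmul', hz, nsmul_zero]
  · refine addOrderOf_dvd_of_nsmul_eq_zero ?_
    have h0 := addOrderOf_nsmul_eq_zero (e + z)
    obtain ⟨t, ht⟩ : p ∣ addOrderOf (e + z) := hpe.trans (addOrderOf_dvd_iff_nsmul_eq_zero.2 (by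
      rw [show p • e = p • (e + z) by rw [nsmul_add, hz, add_zero], smul_comm, h0, smul_zero]))
    rwa [nsmul_add, show addOrderOf (e + z) • z = 0 by rw [ht, mul_comm, mul_nsmul', hz, nsmul_zero],
      add_zero] at h0

/-- Membership depends on the order only. -/
def UnitInv {h : ℕ} [NeZero h] (T : Finset (ZMod h)) : Prop :=
  ∀ (s : (ZMod h)ˣ) (x : ZMod h), (s : ZMod h) * x ∈ T ↔ x ∈ T

theorem UnitInv.iff_of_order {h : ℕ} [NeZero h] {T : Finset (ZMod h)} (hT : UnitInv T)
    {x y : ZMod h} (he : addOrderOf x = addOrderOf y) : x ∈ T ↔ y ∈ T := by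
  obtain ⟨s, rfl⟩ := exists_unit_of_addOrderOf_eq he
  exact (hT s x).symm

theorem two_power_torsion {h a : ℕ} [NeZero h] (hh : h = 2 ^ a) {T : Finset (ZMod h)}
    (hT : UnitInv T) {x z : ZMod h} (hx : 2 • x ≠ 0) (hz : 2 • z = 0) : x + z ∈ T ↔ x ∈ T := by
  refine hT.iff_of_order (order_add_torsion ?_ hz)
  have hd : addOrderOf (2 • x) ∣ 2 ^ a :=
    hh ▸ addOrderOf_dvd_of_nsmul_eq_zero (by rw [nsmul_eq_mul, ZMod.natCast_self, zero_mul])
  obtain ⟨j, -, hj⟩ := (Nat.dvd_prime_pow Nat.prime_two).1 hd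
  rw [hj]
  refine dvd_pow_self 2 fun h0 => hx ?_
  rw [h0, pow_zero] at hj
  exact AddMonoid.addOrderOf_eq_one_iff.1 hj

section Descent

variable {h h' q : ℕ} [NeZero h] [NeZero h']

theorem cast_eq_zero_iff_torsion (hq : q ≠ 0) (hh : h = q * h') (z : ZMod h) :
    ZMod.castHom (Dvd.intro_left q hh.symm) (ZMod h') z = 0 ↔ q • z = 0 := by
  conv_lhs => rw [← ZMod.natCast_zmod_val z, map_natCast, ZMod.natCast_eq_zero_iff]
  conv_rhs => rw [← ZMod.natCast_zmod_val z, nsmul_eq_mul, ← Nat.cast_mul, ZMod.natCast_eq_zero_iff]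
  constructor
  · intro hd
    have h1 := Nat.mul_dvd_mul_left q hd
    rw [← hh] at h1
    exact h1
  · intro hd
    refine Nat.dvd_of_mul_dvd_mul_left (Nat.pos_of_ne_zero hq) ?_
    rwa [← hh]

/-- The projection of group rings. -/
noncomputable def push (hh : h = q * h') :
    AddMonoidAlgebra ℤ (ZMod h) →+* AddMonoidAlgebra ℤ (ZMod h') :=
  AddMonoidAlgebra.mapDomainRingHom ℤ (ZMod.castHom (Dvd.intro_left q hh.symm) (ZMod h')).toAddMonoidHom

theorem push_coeff (hh : h = q * h') (a : AddMonoidAlgebra ℤ (ZMod h)) (y : ZMod h') :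
    (push hh a).coeff y = ∑ x ∈ Finset.univ.filter fun x =>
      ZMod.castHom (Dvd.intro_left q hh.symm) (ZMod h') x = y, a.coeff x := by
  classical
  conv_lhs => rw [eq_sum_single a, map_sum]
  simp [push, Finsupp.single_apply]
  exact (Finset.sum_filter _ _).symm

theorem card_fibre (hq : q.Prime) (hh : h = q * h') (y : ZMod h') :
    (Finset.univ.filter fun x : ZMod h =>
      ZMod.castHom (Dvd.intro_left q hh.symm) (ZMod h') x = y).card = q := by
  classical
  haveI := Fact.mk hq
  obtain ⟨x0, hx0⟩ := ZMod.castHom_surjective (Dvd.intro_left q hh.symm) y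
  refine Eq.trans ?_ (card_torsion (m := h) (p := q) (Dvd.intro h' hh.symm))
  refine Finset.card_bij' (fun x _ => x - x0) (fun z _ => z + x0)
    (fun x hx => Finset.mem_filter.2 ⟨Finset.mem_univ _, ?_⟩)
    (fun z hz => Finset.mem_filter.2 ⟨Finset.mem_univ _, ?_⟩)
    (fun x _ => sub_add_cancel x x0) (fun z _ => add_sub_cancel_right z x0)
  · rw [← cast_eq_zero_iff_torsion hq.ne_zero hh, map_sub, (Finset.mem_filter.1 hx).2, hx0, sub_self]
  · rw [map_add, (cast_eq_zero_iff_torsion hq.ne_zero hh z).2 (Finset.mem_filter.1 hz).2, zero_add, hx0]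

theorem push_allE (hq : q.Prime) (hh : h = q * h') :
    push hh (allE ℤ h) = (q : ℤ) • allE ℤ h' := by
  ext y
  rw [push_coeff, smul_mul_coeff, allE_coeff, mul_one]
  simp only [allE_coeff, Finset.sum_const, nsmul_eq_mul, mul_one]
  rw [card_fibre hq hh]

end Descent

/-- The hypothesis on a rational set. -/
structure CubeEq (h : ℕ) [NeZero h] (T : Finset (ZMod h)) (β : ℕ) (c : ℤ) : Prop where
  zero : (0 : ZMod h) ∉ T
  ne : T.Nonempty
  units : UnitInv T
  pos : β ≠ 0
  eq : indE ℤ T ^ 3 = ((β : ℤ) ^ 2) • indE ℤ T + c • allE ℤ h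

theorem eq_of_cube {k β : ℕ} (hk : k ≠ 0) (h : (k : ℤ) ^ 3 = (β : ℤ) ^ 2 * k) : k = β := by
  have : ((k : ℤ) ^ 2) * k = (β : ℤ) ^ 2 * k := by rw [← h]; ring
  have h2 : (k : ℤ) ^ 2 = (β : ℤ) ^ 2 := mul_right_cancel₀ (by exact_mod_cast hk) this
  exact_mod_cast (pow_left_inj₀ (Int.natCast_nonneg k) (Int.natCast_nonneg β) two_ne_zero).1 h2

variable {h : ℕ} [NeZero h] {T : Finset (ZMod h)} {β : ℕ} {c : ℤ}

theorem CubeEq.of_subset (hT : CubeEq h T β c) {S : AddSubgroup (ZMod h)} {u : ZMod h} (hu : u ∉ S)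
    (hsub : ∀ x ∈ T, x ∈ S) : T.card = β := by
  have hs : indE ℤ T ∈ supp ℤ S := fun x hx => by simp [indE, mt (hsub x) hx]
  have hc : c = 0 := by
    have := congrArg (fun a => a.coeff u) hT.eq
    simp only [AddMonoidAlgebra.coeff_add, Finsupp.add_apply, smul_mul_coeff, allE_coeff] at this
    rw [pow_mem hs 3 u hu, hs u hu] at this
    simpa using this.symm
  have := congrArg (fun a => aug a) hT.eq
  simp only [hc, zero_smul, add_zero, map_pow, aug_indE] at this
  refine eq_of_cube (Finset.card_ne_zero.2 hT.ne) (this.trans ?_)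
  rw [aug_smul, aug_indE]

theorem CubeEq.of_compl_subset (hT : CubeEq h T β c) {S : AddSubgroup (ZMod h)} {u : ZMod h}
    (hu : u ∉ S) (hsub : ∀ x, x ∉ T → x ∈ S) : h - T.card = β := by
  classical
  set W := Finset.univ \ T with hW
  have hWe : indE ℤ W = allE ℤ h - indE ℤ T := by
    ext x
    by_cases hx : x ∈ T <;> simp [indE, hW, hx]
  have hs : indE ℤ W ∈ supp ℤ S := fun x hx => by
    simp [indE, hW, show x ∈ T from by_contra fun h => hx (hsub x h)]
  have hexp : indE ℤ W ^ 3 = ((β : ℤ) ^ 2) • indE ℤ W +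
      (aug (allE ℤ h * allE ℤ h - 3 * allE ℤ h * indE ℤ T + 3 * indE ℤ T * indE ℤ T) - c -
        (β : ℤ) ^ 2) • allE ℤ h := by
    have hring : (allE ℤ h - indE ℤ T) ^ 3 =
        (allE ℤ h * allE ℤ h - 3 * allE ℤ h * indE ℤ T + 3 * indE ℤ T * indE ℤ T) * allE ℤ h -
          indE ℤ T ^ 3 := by ring
    rw [hWe, hring, mul_allE, hT.eq]
    module
  set e := aug (allE ℤ h * allE ℤ h - 3 * allE ℤ h * indE ℤ T + 3 * indE ℤ T * indE ℤ T) - c -
    (β : ℤ) ^ 2
  have hc : e = 0 := by
    have := congrArg (fun a => a.coeff u) hexp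
    simp only [AddMonoidAlgebra.coeff_add, Finsupp.add_apply, smul_mul_coeff, allE_coeff] at this
    rw [pow_mem hs 3 u hu, hs u hu] at this
    simpa using this.symm
  have h3 := congrArg (fun a => aug a) hexp
  simp only [hc, zero_smul, add_zero, map_pow, aug_indE] at h3
  have hWc : W.card = h - T.card := by
    rw [hW, Finset.card_sdiff_of_subset (Finset.subset_univ _), Finset.card_univ, ZMod.card]
  rw [← hWc]
  refine eq_of_cube (Finset.card_ne_zero.2 ⟨0, by simp [hW, hT.zero]⟩) (h3.trans ?_)
  rw [aug_smul, aug_indE]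

theorem CubeEq.odd_power (hT : CubeEq h T β c) :
    ∀ j : ℕ, ∃ e : ℤ, indE ℤ T ^ (2 * j + 1) = ((β : ℤ) ^ (2 * j)) • indE ℤ T + e • allE ℤ h
  | 0 => ⟨0, by simp⟩
  | j + 1 => by
    obtain ⟨e, he⟩ := hT.odd_power j
    refine ⟨(β : ℤ) ^ (2 * j) * c + e * aug (indE ℤ T ^ 2), ?_⟩
    rw [show 2 * (j + 1) + 1 = 2 * j + 1 + 2 by ring, pow_add _ (2 * j + 1), he, add_mul,
      smul_mul_assoc, smul_mul_assoc, ← pow_succ', show (2 + 1 : ℕ) = 3 from rfl, hT.eq, mul_comm (allE ℤ h),
      mul_allE, show 2 * (j + 1) = 2 * j + 2 by ring, pow_add]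
    module

theorem CubeEq.main : ∀ (h : ℕ) [NeZero h] (T : Finset (ZMod h)) (β : ℕ) (c : ℤ),
    CubeEq h T β c → T.card = β ∨ h - T.card = β := by
  intro h
  induction h using Nat.strong_induction_on with
  | _ h ih =>
  intro hne T β c hT
  classical
  have hh1 : h ≠ 1 := by
    rintro rfl
    obtain ⟨x, hx⟩ := hT.ne
    exact hT.zero (Subsingleton.elim x 0 ▸ hx)
  -- the descent step
  have descend : ∀ (q : ℕ), q.Prime → q ∣ h → q ∣ β →
      (∀ x z : ZMod h, q • z = 0 → x ∈ T → x + z ∈ T) → T.card = β ∨ h - T.card = β := by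
    intro q hq hqh hqβ hinv
    obtain ⟨h', hh⟩ := hqh
    haveI : NeZero h' := ⟨fun e => NeZero.ne h (by rw [hh, e, mul_zero])⟩
    obtain ⟨β', rfl⟩ := hqβ
    set π := ZMod.castHom (Dvd.intro_left q hh.symm) (ZMod h') with hπ
    let T' := T.image π
    have hmem : ∀ x, π x ∈ T' ↔ x ∈ T := by
      refine fun x => ⟨fun hx => ?_, fun hx => Finset.mem_image_of_mem _ hx⟩
      obtain ⟨y, hy, hyx⟩ := Finset.mem_image.1 hx
      have := hinv y (x - y) ((cast_eq_zero_iff_torsion hq.ne_zero hh _).1
        (show π (x - y) = 0 by rw [map_sub, hyx, sub_self])) hy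
      rwa [add_sub_cancel] at this
    have hpush : push hh (indE ℤ T) = (q : ℤ) • indE ℤ T' := by
      ext y
      rw [push_coeff, smul_mul_coeff]
      simp only [indE, el_coeff]
      rw [Finset.sum_congr rfl (g := fun _ => if y ∈ T' then (1 : ℤ) else 0) fun x hx => by
        have hxy : π x = y := (Finset.mem_filter.1 hx).2
        simp only [← hmem, hxy], Finset.sum_const, card_fibre hq hh, nsmul_eq_mul]
    have heq := congrArg (push hh) hT.eq
    rw [map_pow, map_add, map_zsmul, map_zsmul, hpush, push_allE hq hh, smul_pow, smul_smul,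
      smul_smul] at heq
    have hq0 : (q : ℤ) ≠ 0 := by exact_mod_cast hq.ne_zero
    have hco : ∀ y, (q : ℤ) ^ 2 * (indE ℤ T' ^ 3).coeff y =
        (q : ℤ) ^ 2 * (β' : ℤ) ^ 2 * (indE ℤ T').coeff y + c := by
      intro y
      have := congrArg (fun a => a.coeff y) heq
      simp only [AddMonoidAlgebra.coeff_add, Finsupp.add_apply, smul_mul_coeff, allE_coeff] at this
      refine mul_left_cancel₀ hq0 ?_
      push_cast at this
      linear_combination this
    have hT'0 : (0 : ZMod h') ∉ T' := fun h0 => hT.zero ((hmem 0).1 (by rwa [map_zero]))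
    have hc : c = (q : ℤ) ^ 2 * (indE ℤ T' ^ 3).coeff 0 := by
      rw [hco 0]; simp [indE, hT'0]
    have hT' : CubeEq h' T' β' ((indE ℤ T' ^ 3).coeff 0) := by
      refine ⟨hT'0, hT.ne.image _, fun s x => ?_, fun e => hT.pos (by rw [e, mul_zero]), ?_⟩
      · obtain ⟨s', hs'⟩ := ZMod.unitsMap_surjective (Dvd.intro_left q hh.symm) s
        obtain ⟨x', rfl⟩ := ZMod.castHom_surjective (Dvd.intro_left q hh.symm) x
        have e : π (s' : ZMod h) = (s : ZMod h') := by
          rw [← hs', ZMod.unitsMap_def, Units.coe_map]; rfl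
        rw [← e, ← map_mul]
        exact (hmem _).trans ((hT.units s' x').trans (hmem x').symm)
      · ext y
        refine mul_left_cancel₀ (pow_ne_zero 2 hq0) ?_
        simp only [AddMonoidAlgebra.coeff_add, Finsupp.add_apply, smul_mul_coeff, allE_coeff]
        rw [hco y, hc]; ring
    have hcard : T.card = q * T'.card := by
      have := congrArg (fun a => aug a) hpush
      simp only [aug_apply, smul_mul_coeff, ← Finset.mul_sum] at this
      rw [show ∑ x, (push hh (indE ℤ T)).coeff x = ∑ x, (indE ℤ T).coeff x by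
        simp only [push_coeff]; exact Finset.sum_fiberwise _ _ _, ← aug_apply, ← aug_apply,
        aug_indE, aug_indE] at this
      exact_mod_cast this
    have hlt : h' < h := by
      rw [hh]
      exact lt_mul_left (Nat.pos_of_ne_zero (NeZero.ne h')) hq.one_lt
    rcases ih h' hlt T' β' _ hT' with e | e
    · left; rw [hcard, e]
    · right; rw [hcard, hh, ← Nat.mul_sub, e]
  by_cases hodd : ∃ q, q.Prime ∧ q ∣ h ∧ Odd q
  · obtain ⟨q, hq, hqh, j, hj⟩ := hodd
    haveI := Fact.mk hq
    let S : AddSubgroup (ZMod h) := (nsmulAddMonoidHom q : ZMod h →+ ZMod h).range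
    have h1S : (1 : ZMod h) ∉ S := by
      rintro ⟨x, hx⟩
      have := congrArg (ZMod.castHom hqh (ZMod q)) hx
      rw [nsmulAddMonoidHom_apply, map_nsmul, nsmul_eq_mul, ZMod.natCast_self, zero_mul,
        map_one] at this
      exact zero_ne_one this
    obtain ⟨e, he⟩ := hT.odd_power j
    rw [← hj] at he
    have hmod : ∀ y, ((T.filter fun x => q • x = y).card : ZMod q) =
        (β : ZMod q) ^ (2 * j) * (if y ∈ T then 1 else 0) + (e : ZMod q) := by
      intro y
      have := congrArg (fun a => (red (Int.castRingHom (ZMod q)) (ZMod h) a).coeff y) he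
      simp only [map_pow] at this
      have hf := frob_coeff (red (Int.castRingHom (ZMod q)) (ZMod h) (indE ℤ T)) 1 y
      rw [pow_one] at hf
      rw [hf] at this
      simp only [red_coeff, AddMonoidAlgebra.coeff_add, Finsupp.add_apply, smul_mul_coeff,
        allE_coeff, indE, el_coeff, pow_one, mul_one, eq_intCast, Int.cast_add, Int.cast_mul,
        Int.cast_pow, Int.cast_natCast, Int.cast_ite, Int.cast_one, Int.cast_zero] at this
      rw [← this, Finset.sum_boole, Finset.filter_filter]
      congr 2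
      ext x
      simp [and_comm]
    have hnone : ∀ y, y ∉ S → (T.filter fun x => q • x = y).card = 0 := fun y hy => by
      rw [Finset.card_eq_zero, Finset.filter_eq_empty_iff]
      exact fun x _ hx => hy ⟨x, hx⟩
    by_cases hqβ : q ∣ β
    · refine descend q hq hqh hqβ fun x z hz hx => ?_
      have hb0 : (β : ZMod q) = 0 := (ZMod.natCast_eq_zero_iff _ _).2 hqβ
      have hj0 : 2 * j ≠ 0 := fun h0 => hq.ne_one (by omega)
      have he0 : (e : ZMod q) = 0 := by
        have := hmod 1
        rw [hnone 1 h1S, hb0, zero_pow hj0, Nat.cast_zero] at this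
        simpa using this.symm
      have h0 := hmod (q • x)
      rw [hb0, zero_pow hj0, he0, zero_mul, add_zero, ZMod.natCast_eq_zero_iff] at h0
      set F := (Finset.univ.filter fun w : ZMod h => q • w = 0).image (x + ·)
      have hF : F.card = q := by
        rw [Finset.card_image_of_injective _ (add_right_injective x), card_torsion hqh]
      have hsub : (T.filter fun w => q • w = q • x) ⊆ F := fun w hw =>
        Finset.mem_image.2 ⟨w - x, Finset.mem_filter.2 ⟨Finset.mem_univ _, by
          rw [smul_sub, (Finset.mem_filter.1 hw).2, sub_self]⟩, add_sub_cancel x w⟩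
      have hpos : 0 < (T.filter fun w => q • w = q • x).card :=
        Finset.card_pos.2 ⟨x, Finset.mem_filter.2 ⟨hx, rfl⟩⟩
      have hTF := Finset.eq_of_subset_of_card_le hsub (hF.le.trans (Nat.le_of_dvd hpos h0))
      have : x + z ∈ F := Finset.mem_image.2 ⟨z, by simpa using hz, rfl⟩
      rw [← hTF] at this
      exact (Finset.mem_filter.1 this).1
    · have hb1 : (β : ZMod q) ^ (2 * j) = 1 := by
        have h0 : (β : ZMod q) ≠ 0 := fun h0 => hqβ ((ZMod.natCast_eq_zero_iff _ _).1 h0)
        rw [show 2 * j = q - 1 by omega]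
        exact ZMod.pow_card_sub_one_eq_one h0
      have hconst : ∀ y, y ∉ S → (if y ∈ T then (1 : ZMod q) else 0) = -(e : ZMod q) := fun y hy => by
        have := hmod y
        rw [hnone y hy, hb1, one_mul, Nat.cast_zero] at this
        linear_combination -this
      have hiff : ∀ y, y ∉ S → (y ∈ T ↔ (1 : ZMod h) ∈ T) := fun y hy => by
        have := (hconst y hy).trans (hconst 1 h1S).symm
        split_ifs at this with a b b <;> simp_all
      by_cases h1 : (1 : ZMod h) ∈ T
      · exact Or.inr (hT.of_compl_subset h1S fun x hx => by_contra fun hxS => hx ((hiff x hxS).2 h1))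
      · exact Or.inl (hT.of_subset h1S fun x hx => by_contra fun hxS => h1 ((hiff x hxS).1 hx))
  -- `h` is a power of two
  push Not at hodd
  have heq2 : ∀ q, q.Prime → q ∣ h → q = 2 := fun q h1 h2 =>
    h1.eq_two_or_odd'.resolve_right (hodd q h1 h2)
  have hha := Nat.eq_prime_pow_of_unique_prime_dvd (NeZero.ne h)
    (fun {d} hd hdh => heq2 d hd hdh)
  set a := h.primeFactorsList.length
  have ha : a ≠ 0 := fun e => hh1 (by rw [hha, e, pow_zero])
  obtain ⟨b, hb⟩ := Nat.exists_eq_succ_of_ne_zero ha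
  have hh : h = 2 * 2 ^ b := by rw [hha, hb, pow_succ']
  haveI : NeZero (2 ^ b) := ⟨by positivity⟩
  set i : ZMod h := ((2 ^ b : ℕ) : ZMod h) with hi
  have hi2 : 2 • i = 0 := by
    rw [hi, nsmul_eq_mul, ← Nat.cast_mul, ← hh, ZMod.natCast_self]
  have hi0 : i ≠ 0 := by
    rw [hi, Ne, ZMod.natCast_eq_zero_iff]
    intro hd
    have := Nat.le_of_dvd (by positivity) hd
    have : 0 < 2 ^ b := by positivity
    omega
  have htor : ∀ z : ZMod h, 2 • z = 0 → z = 0 ∨ z = i := by
    intro z hz
    by_contra hne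
    push Not at hne
    have h3 : ({0, i, z} : Finset (ZMod h)) ⊆ Finset.univ.filter fun w : ZMod h => 2 • w = 0 := by
      intro w hw
      simp only [Finset.mem_insert, Finset.mem_singleton] at hw
      refine Finset.mem_filter.2 ⟨Finset.mem_univ _, ?_⟩
      rcases hw with rfl | rfl | rfl
      exacts [smul_zero _, hi2, hz]
    have := Finset.card_le_card h3
    rw [card_torsion (p := 2) (Dvd.intro _ hh.symm), Finset.card_insert_of_notMem (by
      simp [hi0.symm, hne.1.symm]), Finset.card_insert_of_notMem (by simp [hne.2.symm]),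
      Finset.card_singleton] at this
    omega
  set π := ZMod.castHom (Dvd.intro_left 2 hh.symm) (ZMod (2 ^ b)) with hπ
  have hoff : ∀ x, 2 • x ≠ 0 → (x + i ∈ T ↔ x ∈ T) := fun x hx =>
    two_power_torsion hha hT.units hx hi2
  by_cases hiT : i ∈ T
  swap
  · have hinv : ∀ x z : ZMod h, 2 • z = 0 → x ∈ T → x + z ∈ T := by
      intro x z hz hx
      rcases htor z hz with rfl | rfl
      · rwa [add_zero]
      · refine (hoff x fun h0 => ?_).2 hx
        rcases htor x h0 with rfl | rfl
        exacts [hT.zero hx, hiT hx]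
    refine descend 2 Nat.prime_two (Dvd.intro _ hh.symm) ?_ hinv
    obtain ⟨x, hx⟩ := hT.ne
    have hpush : push hh (indE ℤ T) = (2 : ℤ) • indE ℤ (T.image π) := by
      ext y
      rw [push_coeff, smul_mul_coeff]
      simp only [indE, el_coeff]
      rw [Finset.sum_congr rfl (g := fun _ => if y ∈ T.image π then (1 : ℤ) else 0) fun w hw => by
        have hwy : π w = y := (Finset.mem_filter.1 hw).2
        refine if_congr ⟨fun h1 => hwy ▸ Finset.mem_image_of_mem _ h1, fun h1 => ?_⟩ rfl rfl
        obtain ⟨v, hv, hvy⟩ := Finset.mem_image.1 h1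
        have := hinv v (w - v) ((cast_eq_zero_iff_torsion two_ne_zero hh _).1
          (show π (w - v) = 0 by rw [map_sub, hwy, hvy, sub_self])) hv
        rwa [add_sub_cancel] at this, Finset.sum_const, card_fibre Nat.prime_two hh, nsmul_eq_mul]
      rfl
    have heq := congrArg (push hh) hT.eq
    rw [map_pow, map_add, map_zsmul, map_zsmul, hpush, push_allE Nat.prime_two hh, smul_pow,
      smul_smul, smul_smul] at heq
    have h0' : (0 : ZMod (2 ^ b)) ∉ T.image π := by
      intro h0
      obtain ⟨v, hv, hv0⟩ := Finset.mem_image.1 h0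
      rcases htor v ((cast_eq_zero_iff_torsion two_ne_zero hh v).1 hv0) with rfl | rfl
      exacts [hT.zero hv, hiT hv]
    have e0 := congrArg (fun a => a.coeff 0) heq
    have e1 := congrArg (fun a => a.coeff (π x)) heq
    simp only [AddMonoidAlgebra.coeff_add, Finsupp.add_apply, smul_mul_coeff, allE_coeff] at e0 e1
    rw [show (indE ℤ (T.image π)).coeff 0 = 0 from if_neg h0'] at e0
    rw [show (indE ℤ (T.image π)).coeff (π x) = 1 from if_pos (Finset.mem_image_of_mem _ hx)] at e1
    set A := (indE ℤ (T.image π) ^ 3).coeff 0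
    set B := (indE ℤ (T.image π) ^ 3).coeff (π x)
    push_cast at e0 e1
    have h4 : (2 : ℤ) ∣ (β : ℤ) ^ 2 := ⟨2 * (B - A), by linarith⟩
    exact_mod_cast Int.prime_two.dvd_of_dvd_pow h4
  -- `i ∈ T`, so `β = 1`
  have hiself : -i = i := by
    rw [neg_eq_iff_add_eq_zero, ← two_nsmul, hi2]
  let d : AddMonoidAlgebra ℤ (ZMod h) := single 0 1 - single i 1
  have hTd : indE ℤ T * d = -d := by
    ext x
    have hd : ∀ a : AddMonoidAlgebra ℤ (ZMod h), (a * d).coeff x = a.coeff x - a.coeff (x + i) := by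
      intro a
      simp [d, mul_sub, coeff_mul_add, Finsupp.single_apply, Finset.sum_sub_distrib,
        neg_add_eq_iff_eq_add, eq_comm (a := (0 : ZMod h))]
      have hii : i + i = 0 := by rw [← two_nsmul, hi2]
      conv_lhs => rw [Fintype.sum_eq_single (x + i) (fun e he => if_neg fun h1 => he (by
        linear_combination h1 - hii))]
      rw [if_pos (by linear_combination hii)]
    rw [hd]
    by_cases hx0 : x = 0
    · subst hx0; simp [d, indE, hT.zero, hiT, Finsupp.single_apply, hi0]
    by_cases hxi : x = i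
    · subst hxi
      simp [d, indE, hT.zero, hiT, Finsupp.single_apply, hi0, hi0.symm, ← two_nsmul, hi2]
    · have := hoff x fun h0 => (htor x h0).elim hx0 hxi
      simp [d, indE, Finsupp.single_apply, Ne.symm hx0, Ne.symm hxi, this]
  have haug : aug d = 0 := by simp [d, aug_apply, Finsupp.single_apply, Finset.sum_sub_distrib]
  have hβ : β = 1 := by
    have h1 := congrArg (· * d) hT.eq
    simp only [add_mul, smul_mul_assoc, hTd] at h1
    rw [mul_comm (allE ℤ h), mul_allE, haug, zero_smul, smul_zero, add_zero,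
      show indE ℤ T ^ 3 * d = indE ℤ T * (indE ℤ T * (indE ℤ T * d)) by ring, hTd, mul_neg, hTd,
      neg_neg, hTd] at h1
    have h2 := congrArg (fun a => a.coeff 0) h1
    simp only [smul_mul_coeff] at h2
    simp [d, Finsupp.single_apply, hi0] at h2
    exact_mod_cast (pow_eq_one_iff_of_nonneg (Int.natCast_nonneg β) two_ne_zero).1 (by linarith)
  subst hβ
  set L := (T.erase i).image π with hL
  have hmemL : ∀ x, π x ∈ L ↔ x ∈ T.erase i := by
    refine fun x => ⟨fun hx => ?_, fun hx => Finset.mem_image_of_mem _ hx⟩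
    obtain ⟨y, hy, hyx⟩ := Finset.mem_image.1 hx
    have hz := (cast_eq_zero_iff_torsion two_ne_zero hh (x - y)).1
      (show π (x - y) = 0 by rw [map_sub, hyx, sub_self])
    rcases htor _ hz with h0 | h0
    · rwa [sub_eq_zero.1 h0]
    · obtain rfl : x = y + i := by rw [← h0, add_sub_cancel]
      obtain ⟨hyi, hyT⟩ := Finset.mem_erase.1 hy
      have hy2 : 2 • y ≠ 0 := fun h2 =>
        (htor y h2).elim (fun e => hT.zero (e ▸ hyT)) hyi
      refine Finset.mem_erase.2 ⟨fun e => hT.zero ?_, (hoff y hy2).2 hyT⟩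
      rwa [add_eq_right.1 e] at hyT
  have hL0 : (0 : ZMod (2 ^ b)) ∉ L := fun h0 => by
    have := (Finset.mem_erase.1 ((hmemL 0).1 (by rwa [map_zero]))).2
    exact hT.zero this
  have hsplit : indE ℤ T = single i 1 + indE ℤ (T.erase i) := by
    ext x
    by_cases hx : x = i
    · subst hx; simp [indE, hiT]
    · simp [indE, hx, Ne.symm hx]
  have hπi : π i = 0 := (cast_eq_zero_iff_torsion two_ne_zero hh i).2 hi2
  have hpush : push hh (indE ℤ T) = 1 + (2 : ℤ) • indE ℤ L := by
    rw [hsplit, map_add]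
    congr 1
    · simp [push, AddMonoidAlgebra.one_def]
      rw [show (ZMod.cast i : ZMod (2 ^ b)) = 0 from hπi]
    · ext y
      rw [push_coeff, smul_mul_coeff]
      simp only [indE, el_coeff]
      rw [Finset.sum_congr rfl (g := fun _ => if y ∈ L then (1 : ℤ) else 0) fun x hx => by
        have hxy : π x = y := (Finset.mem_filter.1 hx).2
        simp only [← hmemL, hxy], Finset.sum_const, card_fibre Nat.prime_two hh, nsmul_eq_mul]
      rfl
  have heq := congrArg (push hh) hT.eq
  rw [map_pow, map_add, map_zsmul, map_zsmul, hpush, push_allE Nat.prime_two hh] at heq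
  have hu : ∀ (s : (ZMod (2 ^ b))ˣ) (x : ZMod (2 ^ b)),
      (s : ZMod (2 ^ b)) * x ∈ L ↔ x ∈ L := by
    intro s x
    obtain ⟨s', hs'⟩ := ZMod.unitsMap_surjective (Dvd.intro_left 2 hh.symm) s
    obtain ⟨x', rfl⟩ := ZMod.castHom_surjective (Dvd.intro_left 2 hh.symm) x
    have e : π (s' : ZMod h) = (s : ZMod (2 ^ b)) := by
      rw [← hs', ZMod.unitsMap_def, Units.coe_map]; rfl
    have hsi : (s' : ZMod h) * x' = i ↔ x' = i := by
      have h2 : ∀ w : ZMod h, w = i ↔ (2 • w = 0 ∧ w ≠ 0) := fun w =>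
        ⟨fun e => e ▸ ⟨hi2, hi0⟩, fun e => (htor w e.1).resolve_left e.2⟩
      rw [h2, h2, ← mul_smul_comm, Units.mul_right_eq_zero, Ne, Units.mul_right_eq_zero]
    rw [← e, ← map_mul]
    refine (hmemL _).trans (Iff.trans ?_ (hmemL x').symm)
    simp only [Finset.mem_erase, ne_eq, hsi, hT.units s' x']
  -- reduce modulo two
  set Lr := indE ℤ L
  have hexp : (2 : ℤ) • (Lr + 3 * Lr ^ 2 + 2 * Lr ^ 3) = c • allE ℤ (2 ^ b) := by
    have h6 : (2 : AddMonoidAlgebra ℤ (ZMod (2 ^ b))) *
        ((2 : AddMonoidAlgebra ℤ (ZMod (2 ^ b))) * (Lr + 3 * Lr ^ 2 + 2 * Lr ^ 3)) =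
        2 * (c • allE ℤ (2 ^ b)) := by
      simp only [zsmul_eq_mul, Int.cast_natCast, Nat.cast_ofNat, Int.cast_ofNat, Nat.cast_one,
        one_pow, Int.cast_one, one_mul] at heq ⊢
      linear_combination heq
    ext y
    have := congrArg (fun a => a.coeff y) h6
    simp only [two_mul, AddMonoidAlgebra.coeff_add, Finsupp.add_apply] at this ⊢
    simp only [smul_mul_coeff, two_mul, AddMonoidAlgebra.coeff_add, Finsupp.add_apply] at this ⊢
    omega
  obtain ⟨e, rfl⟩ : (2 : ℤ) ∣ c := by
    have := congrArg (fun a => a.coeff 0) hexp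
    simp only [smul_mul_coeff, allE_coeff, mul_one] at this
    exact ⟨_, this.symm⟩
  have hpar : ∀ y, y ≠ 0 → (if y ∈ L then (1 : ZMod 2) else 0) = (e : ZMod 2) := by
    intro y hy
    have hz : Lr + 3 * Lr ^ 2 + 2 * Lr ^ 3 = e • allE ℤ (2 ^ b) := by
      ext w
      have := congrArg (fun a => a.coeff w) hexp
      simp only [smul_mul_coeff] at this ⊢
      linarith
    have := congrArg (fun a => (red (Int.castRingHom (ZMod 2)) (ZMod (2 ^ b)) a).coeff y) hz
    simp only [map_add, map_mul, map_pow, map_ofNat] at this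
    have h2 : (2 : AddMonoidAlgebra (ZMod 2) (ZMod (2 ^ b))) = 0 := by
      simpa using CharP.cast_eq_zero (AddMonoidAlgebra (ZMod 2) (ZMod (2 ^ b))) 2
    have h3 : (3 : AddMonoidAlgebra (ZMod 2) (ZMod (2 ^ b))) = 1 := by
      rw [show (3 : AddMonoidAlgebra (ZMod 2) (ZMod (2 ^ b))) = 2 + 1 by norm_num, h2, zero_add]
    rw [h3, one_mul, h2, zero_mul, add_zero] at this
    rw [AddMonoidAlgebra.coeff_add, Finsupp.add_apply, red_coeff, red_coeff] at this
    have hfr := frob_coeff (red (Int.castRingHom (ZMod 2)) (ZMod (2 ^ b)) Lr) 1 y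
    rw [pow_one] at hfr
    rw [hfr] at this
    simp only [smul_mul_coeff, allE_coeff, mul_one, eq_intCast, red_coeff, Lr, indE, el_coeff,
      Int.cast_ite, Int.cast_one, Int.cast_zero, pow_one] at this
    rw [← this, eq_comm, add_eq_left]
    by_cases hne' : (Finset.univ.filter fun w : ZMod (2 ^ b) => 2 • w = y).Nonempty
    · obtain ⟨w0, hw0⟩ := hne'
      have hw0' := (Finset.mem_filter.1 hw0).2
      have hb1 : 2 ∣ 2 ^ b := dvd_pow_self 2 fun e => hy (by
        subst e; exact Fintype.card_le_one_iff.1 (by simp [ZMod.card]) y 0)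
      rw [Finset.sum_congr rfl (g := fun _ => if w0 ∈ L then (1 : ZMod 2) else 0) fun w hw =>
        if_congr (by
          have := two_power_torsion (a := b) rfl hu (x := w0) (z := w - w0) (hw0'.symm ▸ hy)
            (by rw [smul_sub, (Finset.mem_filter.1 hw).2, hw0', sub_self])
          rwa [add_sub_cancel] at this) rfl rfl, Finset.sum_const]
      have hc2 : (Finset.univ.filter fun w : ZMod (2 ^ b) => 2 • w = y).card = 2 := by
        refine Eq.trans ?_ (card_torsion (p := 2) hb1)
        exact Finset.card_bij' (fun x _ => x - w0) (fun z _ => z + w0)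
          (fun x hx => Finset.mem_filter.2 ⟨Finset.mem_univ _, by
            rw [smul_sub, (Finset.mem_filter.1 hx).2, hw0', sub_self]⟩)
          (fun z hz => Finset.mem_filter.2 ⟨Finset.mem_univ _, by
            rw [smul_add, (Finset.mem_filter.1 hz).2, hw0', zero_add]⟩)
          (fun x _ => sub_add_cancel x w0) (fun z _ => add_sub_cancel_right z w0)
      rw [hc2, nsmul_eq_mul]
      exact mul_eq_zero_of_left rfl _
    · rw [Finset.not_nonempty_iff_eq_empty.1 hne', Finset.sum_empty]
  have hcard : T.card = 1 + 2 * L.card := by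
    have := congrArg (fun a => aug a) hpush
    simp only [Lr, map_add, map_one, zsmul_eq_mul, map_mul, map_intCast, aug_indE] at this
    rw [show aug (push hh (indE ℤ T)) = aug (indE ℤ T) by
      simp only [aug_apply, push_coeff]; exact Finset.sum_fiberwise _ _ _, aug_indE] at this
    simp only [Int.cast_ofNat, Int.cast_eq] at this
    push_cast at this
    omega
  by_cases he : (e : ZMod 2) = 0
  · left
    have : L = ∅ := Finset.eq_empty_of_forall_notMem fun y hy => by
      have := hpar y (fun e => hL0 (e ▸ hy))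
      rw [if_pos hy, he] at this
      exact one_ne_zero this
    rw [hcard, this, Finset.card_empty]
  · right
    have : L = Finset.univ.erase 0 := by
      ext y
      simp only [Finset.mem_erase, Finset.mem_univ, and_true]
      refine ⟨fun hy e => hL0 (e ▸ hy), fun hy => by_contra fun hyL => ?_⟩
      have := hpar y hy
      rw [if_neg hyL] at this
      exact he this.symm
    rw [hcard, this, Finset.card_erase_of_mem (Finset.mem_univ _), Finset.card_univ, ZMod.card]
    have : 0 < 2 ^ b := by positivity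
    omega

end CfsgLib.Perm.DihedralBGroup
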