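import Cfsg.Agent.Lib.Perm.DihedralBGroup.Basic

/-!
For an odd prime `p` dividing `m`, every suborbit other than the trivial one contains a rotation of
order divisible by `p`: the `p ^ N`-th powers in the transitivity module modulo `p ^ k` have their
rotation part supported by the `p'`-part of the cyclic group.
-/

set_option autoImplicit false
set_option linter.unusedSectionVars false

namespace CfsgLib.Perm.DihedralBGroup

/-- Elements supported by a subgroup. -/
def supp (R : Type*) [CommRing R] {G : Type*} [AddCommGroup G] (S : AddSubgroup G) :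
    Subring (AddMonoidAlgebra R G) where
  carrier := {f | ∀ c, c ∉ S → f.coeff c = 0}
  add_mem' := fun {f g} hf hg c hc => by simp [hf c hc, hg c hc]
  zero_mem' := fun c _ => by simp
  neg_mem' := fun {f} hf c hc => by simp [hf c hc]
  one_mem' := fun c hc => by
    classical
    rw [AddMonoidAlgebra.one_def, AddMonoidAlgebra.coeff_single, Finsupp.single_apply, if_neg]
    exact fun e => hc (e ▸ S.zero_mem)
  mul_mem' := fun {f g} hf hg c hc => by
    classical
    rw [AddMonoidAlgebra.coeff_mul]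
    refine Finset.sum_eq_zero fun a _ => Finset.sum_eq_zero fun b _ => ?_
    simp only
    split_ifs with h
    · by_cases ha : a ∈ S
      · rw [hg b fun hb => hc (h ▸ S.add_mem ha hb), mul_zero]
      · rw [hf a ha, zero_mul]
    · rfl

theorem mem_supp {R : Type*} [CommRing R] {G : Type*} [AddCommGroup G] {S : AddSubgroup G}
    {f : AddMonoidAlgebra R G} : f ∈ supp R S ↔ ∀ c, c ∉ S → f.coeff c = 0 := Iff.rfl

/-- The reduction of coefficients. -/
noncomputable abbrev red {R R' : Type*} [CommRing R] [CommRing R'] (f : R →+* R') (G : Type*)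
    [AddMonoid G] : AddMonoidAlgebra R G →+* AddMonoidAlgebra R' G :=
  AddMonoidAlgebra.mapRingHom G f

theorem red_coeff {R R' : Type*} [CommRing R] [CommRing R'] (f : R →+* R') {G : Type*}
    [AddMonoid G] (x : AddMonoidAlgebra R G) (c : G) :
    (red f G x).coeff c = f (x.coeff c) := by
  simp [red]

section CharP

variable {p : ℕ} [hp : Fact p.Prime] {G : Type*} [AddCommGroup G]

instance charP_addMonoidAlgebra : CharP (AddMonoidAlgebra (ZMod p) G) p :=
  charP_of_injective_ringHom (f := AddMonoidAlgebra.singleZeroRingHom)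
    (fun a b h => by simpa using congrArg (fun x => x.coeff 0) h) p

/-- Frobenius in coordinates. -/
theorem frob_eq [Fintype G] (x : AddMonoidAlgebra (ZMod p) G) (N : ℕ) :
    x ^ p ^ N = ∑ c, AddMonoidAlgebra.single (p ^ N • c) (x.coeff c) := by
  classical
  conv_lhs => rw [show x = ∑ c, AddMonoidAlgebra.single c (x.coeff c) by
    ext c; simp [Finsupp.single_apply]]
  rw [sum_pow_char_pow]
  refine Finset.sum_congr rfl fun c _ => ?_
  rw [AddMonoidAlgebra.single_pow, ZMod.pow_card_pow]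

theorem frob_coeff [Fintype G] [DecidableEq G] (x : AddMonoidAlgebra (ZMod p) G) (N : ℕ) (y : G) :
    (x ^ p ^ N).coeff y = ∑ c ∈ Finset.univ.filter fun c => p ^ N • c = y, x.coeff c := by
  rw [frob_eq, AddMonoidAlgebra.coeff_sum, Finsupp.finsetSum_apply, Finset.sum_filter]
  simp [Finsupp.single_apply]

end CharP

section Universal

open MvPolynomial

theorem omega_pow {S : Type*} [CommRing S] (v : S) :
    ∀ h : ℕ, (⟨0, 1⟩ : QuadraticAlgebra S v 0) ^ (2 * h + 1) = ⟨0, v ^ h⟩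
  | 0 => by simp
  | h + 1 => by
    rw [show 2 * (h + 1) + 1 = 2 * h + 1 + 2 by ring, pow_add, omega_pow v h]
    ext <;> simp [pow_two, pow_succ, mul_comm]

theorem base_pow {S : Type*} [CommRing S] (v a : S) :
    ∀ j : ℕ, (⟨a, 0⟩ : QuadraticAlgebra S v 0) ^ j = ⟨a ^ j, 0⟩
  | 0 => by ext <;> simp [QuadraticAlgebra.re_one, QuadraticAlgebra.im_one]
  | j + 1 => by rw [pow_succ, base_pow v a j]; ext <;> simp [pow_succ]

theorem qa_map {S T : Type*} [CommRing S] [CommRing T] (φ : S →+* T) (a v : S) :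
    ∀ j : ℕ, φ (((⟨a, 1⟩ : QuadraticAlgebra S v 0) ^ j).re) =
        ((⟨φ a, 1⟩ : QuadraticAlgebra T (φ v) 0) ^ j).re ∧
      φ (((⟨a, 1⟩ : QuadraticAlgebra S v 0) ^ j).im) =
        ((⟨φ a, 1⟩ : QuadraticAlgebra T (φ v) 0) ^ j).im
  | 0 => by simp [QuadraticAlgebra.re_one, QuadraticAlgebra.im_one]
  | j + 1 => by
    obtain ⟨h1, h2⟩ := qa_map φ a v j
    rw [pow_succ, pow_succ, QuadraticAlgebra.re_mul, QuadraticAlgebra.re_mul,
      QuadraticAlgebra.im_mul, QuadraticAlgebra.im_mul]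
    simp [h1, h2]

/-- The universal congruences for the `p`-th power of `a + ω`, `ω ^ 2 = v`. -/
theorem exists_universal {p : ℕ} (hp : p.Prime) (hodd : Odd p) :
    ∃ E0 E1 : MvPolynomial (Fin 2) ℤ, ∀ (S : Type) [CommRing S] (a v : S),
      ((⟨a, 1⟩ : QuadraticAlgebra S v 0) ^ p).re = a ^ p + p * aeval ![a, v] E0 ∧
      v * ((⟨a, 1⟩ : QuadraticAlgebra S v 0) ^ p).im ^ 2 = v ^ p + p * aeval ![a, v] E1 := by
  obtain ⟨h, hh⟩ := hodd
  let A : MvPolynomial (Fin 2) ℤ := X 0
  let V : MvPolynomial (Fin 2) ℤ := X 1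
  obtain ⟨r, hr⟩ := exists_add_pow_prime_eq hp (⟨A, 0⟩ : QuadraticAlgebra _ V 0) ⟨0, 1⟩
  set s : QuadraticAlgebra _ V 0 := ⟨A, 0⟩ * ⟨0, 1⟩ * r with hs
  have hz : (⟨A, 1⟩ : QuadraticAlgebra _ V 0) = ⟨A, 0⟩ + ⟨0, 1⟩ := by ext <;> simp
  have hzp : (⟨A, 1⟩ : QuadraticAlgebra _ V 0) ^ p = ⟨A ^ p, V ^ h⟩ + p • s := by
    rw [hz, hr, base_pow, nsmul_eq_mul, hs]
    conv_lhs => enter [1, 2]; rw [hh, omega_pow]
    ext <;> simp [mul_assoc, mul_left_comm]
  refine ⟨s.re, 2 * V ^ (h + 1) * s.im + (p : MvPolynomial (Fin 2) ℤ) * V * s.im ^ 2,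
    fun S _ a v => ?_⟩
  have hm := qa_map (aeval ![a, v] : MvPolynomial (Fin 2) ℤ →ₐ[ℤ] S).toRingHom A V p
  have eA : (aeval ![a, v] : MvPolynomial (Fin 2) ℤ →ₐ[ℤ] S).toRingHom A = a := by simp [A]
  have eV : (aeval ![a, v] : MvPolynomial (Fin 2) ℤ →ₐ[ℤ] S).toRingHom V = v := by simp [V]
  rw [hzp] at hm
  rw [eA, eV] at hm
  refine ⟨hm.1.symm.trans ?_, ?_⟩
  · simp [A, nsmul_eq_mul]
  · rw [← hm.2]
    simp [V]
    rw [hh]
    push_cast
    ring

theorem dvd_pow_sub_pow {S : Type*} [CommRing S] {p k : ℕ} {a c : S} (hk : 1 ≤ k)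
    (h : (p : S) ^ k ∣ a - c) : (p : S) ^ (k + 1) ∣ a ^ p - c ^ p := by
  rw [← geom_sum₂_mul, pow_succ']
  refine mul_dvd_mul ?_ h
  exact (dvd_geom_sum₂_iff_of_dvd_sub ((dvd_pow_self _ (by omega)).trans h)).2
    (dvd_mul_right _ _)

theorem dvd_aeval_sub {S : Type*} [CommRing S] {q : S} (a v c d : S) (h1 : q ∣ a - c)
    (h2 : q ∣ v - d) (E : MvPolynomial (Fin 2) ℤ) :
    q ∣ aeval ![a, v] E - aeval ![c, d] E := by
  induction E using MvPolynomial.induction_on with
  | C n => simp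
  | add f g hf hg => rw [map_add, map_add, add_sub_add_comm]; exact dvd_add hf hg
  | mul_X f i hf =>
    rw [map_mul, map_mul, aeval_X, aeval_X]
    have hi : q ∣ (![a, v] i) - ![c, d] i := by fin_cases i <;> simpa
    obtain ⟨u, hu⟩ := hf
    obtain ⟨w, hw⟩ := hi
    exact ⟨u * (![a, v] i) + aeval ![c, d] f * w, by linear_combination ![a, v] i * hu + aeval ![c, d] f * hw⟩

theorem aeval_mem {S : Type*} [CommRing S] (R' : Subring S) {c d : S} (hc : c ∈ R') (hd : d ∈ R')
    (E : MvPolynomial (Fin 2) ℤ) : aeval ![c, d] E ∈ R' := by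
  induction E using MvPolynomial.induction_on with
  | C n => simp
  | add f g hf hg => rw [map_add]; exact add_mem hf hg
  | mul_X f i hf =>
    rw [map_mul, aeval_X]
    refine mul_mem hf ?_
    fin_cases i <;> simpa

end Universal

variable {m : ℕ} [NeZero m] {K : Subgroup (Equiv.Perm (DihedralGroup m))}

section Iteration

variable {p : ℕ} [hp : Fact p.Prime] {k : ℕ}

local notation "Zk" => ZMod (p ^ k)

/-- The second invariant of an element. -/
noncomputable def vv (y : MonoidAlgebra Zk (DihedralGroup m)) : AddMonoidAlgebra Zk (ZMod m) :=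
  c1 (y * y) - c1 y * c1 y

theorem vv_eq (y : MonoidAlgebra Zk (DihedralGroup m)) : vv y = rev (c2 y) * c2 y := by
  rw [vv, c1_mul, add_sub_cancel_left]

/-- Raising to the `p`-th power in coordinates. -/
theorem Hyp.step_coord (H : Hyp K) {y : MonoidAlgebra Zk (DihedralGroup m)} (hy : InvE K y) :
    c1 (y ^ p) = ((⟨c1 y, 1⟩ : QuadraticAlgebra _ (vv y) 0) ^ p).re ∧
    vv (y ^ p) = vv y * ((⟨c1 y, 1⟩ : QuadraticAlgebra _ (vv y) 0) ^ p).im ^ 2 := by
  obtain ⟨h1, -⟩ := H.coord_pow hy p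
  obtain ⟨h2, -⟩ := H.coord_pow hy (p + p)
  rw [← vv_eq] at h1 h2
  refine ⟨h1, ?_⟩
  rw [vv, ← pow_add, h2, h1, pow_add, QuadraticAlgebra.re_mul]
  ring

/-- `y` agrees modulo `p ^ j` with data supported by `S`. -/
def Good (S : AddSubgroup (ZMod m)) (j : ℕ) (y : MonoidAlgebra Zk (DihedralGroup m)) : Prop :=
  ∃ c ∈ supp Zk S, ∃ d ∈ supp Zk S, (p : AddMonoidAlgebra Zk (ZMod m)) ^ j ∣ c1 y - c ∧
    (p : AddMonoidAlgebra Zk (ZMod m)) ^ j ∣ vv y - d

theorem Hyp.good_step (H : Hyp K) (hodd : Odd p) {S : AddSubgroup (ZMod m)} {j : ℕ} (hj : 1 ≤ j)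
    {y : MonoidAlgebra Zk (DihedralGroup m)} (hy : InvE K y) (hg : Good S j y) :
    Good S (j + 1) (y ^ p) := by
  obtain ⟨c, hc, d, hd, h1, h2⟩ := hg
  obtain ⟨E0, E1, hE⟩ := exists_universal hp.out hodd
  obtain ⟨e1, e2⟩ := H.step_coord hy
  obtain ⟨u1, u2⟩ := hE _ (c1 y) (vv y)
  refine ⟨c ^ p + p * MvPolynomial.aeval ![c, d] E0,
    add_mem (pow_mem hc _) (mul_mem (natCast_mem _ _) (aeval_mem _ hc hd _)),
    d ^ p + p * MvPolynomial.aeval ![c, d] E1,
    add_mem (pow_mem hd _) (mul_mem (natCast_mem _ _) (aeval_mem _ hc hd _)), ?_, ?_⟩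
  · rw [e1, u1, add_sub_add_comm, ← mul_sub]
    exact dvd_add (dvd_pow_sub_pow hj h1)
      (by rw [pow_succ']; exact mul_dvd_mul dvd_rfl (dvd_aeval_sub _ _ _ _ h1 h2 _))
  · rw [e2, u2, add_sub_add_comm, ← mul_sub]
    exact dvd_add (dvd_pow_sub_pow hj h2)
      (by rw [pow_succ']; exact mul_dvd_mul dvd_rfl (dvd_aeval_sub _ _ _ _ h1 h2 _))

theorem Hyp.red_pow (H : Hyp K) (hodd : Odd p) (f : Zk →+* ZMod p)
    {y : MonoidAlgebra Zk (DihedralGroup m)} (hy : InvE K y) :
    ∀ N : ℕ, red f _ (c1 (y ^ p ^ N)) = red f _ (c1 y) ^ p ^ N ∧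
      red f _ (vv (y ^ p ^ N)) = red f _ (vv y) ^ p ^ N
  | 0 => by simp
  | N + 1 => by
    obtain ⟨i1, i2⟩ := H.red_pow hodd f hy N
    obtain ⟨E0, E1, hE⟩ := exists_universal hp.out hodd
    obtain ⟨e1, e2⟩ := H.step_coord (H.invE_pow hy (p ^ N))
    obtain ⟨u1, u2⟩ := hE _ (c1 (y ^ p ^ N)) (vv (y ^ p ^ N))
    rw [pow_succ, pow_mul, e1, e2, u1, u2, pow_mul, pow_mul, ← i1, ← i2]
    simp [CharP.cast_eq_zero]

theorem dvd_of_red_eq_zero (hk : k ≠ 0) {f : AddMonoidAlgebra Zk (ZMod m)}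
    (h : red (ZMod.castHom (dvd_pow_self p hk) (ZMod p)) _ f = 0) :
    ∃ g : AddMonoidAlgebra Zk (ZMod m), f = p * g ∧ ∀ c, f.coeff c = 0 → g.coeff c = 0 := by
  refine ⟨.ofCoeff (Finsupp.equivFunOnFinite.symm fun c => (((f.coeff c).val / p : ℕ) : Zk)), ?_,
    fun c hc => by simp [hc]⟩
  ext c
  have h0 : ((f.coeff c).val : ZMod p) = 0 := by
    have := congrArg (fun x => x.coeff c) h
    rw [red_coeff, AddMonoidAlgebra.coeff_zero, Finsupp.zero_apply, ZMod.castHom_apply,
      ← ZMod.natCast_val] at this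
    exact this
  rw [← nsmul_eq_mul, AddMonoidAlgebra.coeff_smul, Finsupp.smul_apply,
    AddMonoidAlgebra.coeff_ofCoeff, Finsupp.coe_equivFunOnFinite_symm, nsmul_eq_mul,
    ← Nat.cast_mul, Nat.mul_div_cancel' ((ZMod.natCast_eq_zero_iff _ _).1 h0), ZMod.natCast_zmod_val]

end Iteration

/-- Every nontrivial suborbit contains a rotation of order divisible by `p`. -/
theorem Hyp.exists_rot_order (H : Hyp K) {p a m' : ℕ} [hp : Fact p.Prime] (hodd : Odd p)
    (hm : m = p ^ a * m') (ha : a ≠ 0) (hm' : ¬ p ∣ m') {x : DihedralGroup m} (hx : x ≠ 1) :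
    ∃ h ∈ K, h 1 = 1 ∧ ∃ c, h x = DihedralGroup.r c ∧ m' • c ≠ 0 := by
  classical
  have hp2 : 2 ≤ p := hp.out.two_le
  have hm'0 : 0 < m' := Nat.pos_of_ne_zero fun e => hm' (e ▸ dvd_zero p)
  set k := 2 * m + 1 with hk
  have hk0 : k ≠ 0 := by omega
  have hbig : 2 * m < p ^ k := lt_of_lt_of_le (by omega) (Nat.lt_pow_self (n := k) hp2).le
  set π := ZMod.castHom (dvd_pow_self p hk0) (ZMod p) with hπ
  let S : AddSubgroup (ZMod m) := (nsmulAddMonoidHom m' : ZMod m →+ ZMod m).ker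
  have hS : ∀ c, c ∈ S ↔ m' • c = 0 := fun c => AddMonoidHom.mem_ker
  set N := Nat.totient m' * (a + k) with hN
  have hNle : a + k ≤ N := Nat.le_mul_of_pos_left _ (Nat.totient_pos.2 hm'0)
  have hfix : ∀ c ∈ S, p ^ N • c = c := by
    intro c hc
    have h1 : p ^ N ≡ 1 [MOD m'] := by
      rw [hN, pow_mul]
      simpa using (Nat.ModEq.pow_totient ((hp.out.coprime_iff_not_dvd.2 hm'))).pow (a + k)
    have h2 : addOrderOf c ∣ m' := addOrderOf_dvd_of_nsmul_eq_zero ((hS c).1 hc)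
    conv_rhs => rw [← one_nsmul c]
    exact nsmul_eq_nsmul_iff_modEq.2 (h1.of_dvd h2)
  have hkill : ∀ c, p ^ a • c ∈ S := by
    intro c
    rw [hS, ← mul_nsmul', mul_comm, ← hm, nsmul_eq_mul, ZMod.natCast_self, zero_mul]
  have hA0 : ∀ f : AddMonoidAlgebra (ZMod p) (ZMod m), f ^ p ^ a ∈ supp (ZMod p) S := by
    intro f c hc
    rw [frob_coeff]
    exact Finset.sum_eq_zero fun d hd => absurd (hkill d) ((Finset.mem_filter.1 hd).2 ▸ hc)
  -- `p ^ N`-th powers have rotation part supported by `S`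
  have hpow : ∀ y : MonoidAlgebra (ZMod (p ^ k)) (DihedralGroup m), InvE K y →
      c1 (y ^ p ^ N) ∈ supp (ZMod (p ^ k)) S := by
    intro y hy
    have hlift : ∀ f : AddMonoidAlgebra (ZMod (p ^ k)) (ZMod m), red π _ f ∈ supp (ZMod p) S →
        ∃ c ∈ supp (ZMod (p ^ k)) S, (p : AddMonoidAlgebra (ZMod (p ^ k)) (ZMod m)) ^ 1 ∣ f - c := by
      intro f hf
      refine ⟨.ofCoeff (Finsupp.equivFunOnFinite.symm fun c => if c ∈ S then f.coeff c else 0),
        fun c hc => by simp [hc], ?_⟩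
      obtain ⟨g, hg, -⟩ := dvd_of_red_eq_zero (m := m) hk0 (f := f -
        .ofCoeff (Finsupp.equivFunOnFinite.symm fun c => if c ∈ S then f.coeff c else 0)) (by
          ext c
          rw [red_coeff]
          by_cases hc : c ∈ S
          · simp [hc]
          · have := hf c hc
            rw [red_coeff] at this
            simpa [hc, hπ] using this)
      exact ⟨g, by rw [pow_one, hg]⟩
    have hbase : Good S 1 (y ^ p ^ a) := by
      obtain ⟨r1, r2⟩ := H.red_pow hodd π hy a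
      obtain ⟨c, hc, h1⟩ := hlift (c1 (y ^ p ^ a)) (r1 ▸ hA0 _)
      obtain ⟨d, hd, h2⟩ := hlift (vv (y ^ p ^ a)) (r2 ▸ hA0 _)
      exact ⟨c, hc, d, hd, h1, h2⟩
    have hiter : ∀ j, Good S (j + 1) (y ^ p ^ (a + j)) := by
      intro j
      induction j with
      | zero => exact hbase
      | succ j ih =>
        have e : p ^ (a + (j + 1)) = p ^ (a + j) * p := by rw [← add_assoc, pow_succ]
        rw [e, pow_mul y]
        exact H.good_step hodd (by omega) (H.invE_pow hy _) ih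
    obtain ⟨c, hc, -, -, h1, -⟩ := hiter (N - a)
    rw [Nat.add_sub_of_le (by omega)] at h1
    have hz : (p : AddMonoidAlgebra (ZMod (p ^ k)) (ZMod m)) ^ (N - a + 1) = 0 := by
      obtain ⟨t, ht⟩ : ∃ t, N - a + 1 = k + t := ⟨N - a + 1 - k, by omega⟩
      have e : ((p ^ k : ℕ) : AddMonoidAlgebra (ZMod (p ^ k)) (ZMod m)) = 0 := by
        rw [AddMonoidAlgebra.natCast_def, ZMod.natCast_self, AddMonoidAlgebra.single_zero]
      rw [Nat.cast_pow] at e
      exact pow_eq_zero_of_le (by omega) e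
    rw [hz, zero_dvd_iff, sub_eq_zero] at h1
    rw [h1]; exact hc
  -- the elements with rotation part supported by `S`
  let T : MonoidAlgebra (ZMod (p ^ k)) (DihedralGroup m) → Prop := fun y =>
    InvE K y ∧ c1 y ∈ supp (ZMod (p ^ k)) S
  have hsplit : ∀ w, T w → ∃ τ, T τ ∧ w = w ^ p ^ N + p * τ := by
    intro w hw
    set d := w - w ^ p ^ N with hd
    have hdI : InvE K d := hw.1.sub (H.invE_pow hw.1 _)
    have hdS : c1 d ∈ supp (ZMod (p ^ k)) S := by
      rw [hd, c1_sub]; exact sub_mem hw.2 (hpow w hw.1)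
    have hred : red π _ (c1 d) = 0 := by
      rw [hd, c1_sub, map_sub, sub_eq_zero, (H.red_pow hodd π hw.1 N).1]
      refine AddMonoidAlgebra.ext (Finsupp.ext fun c => ?_)
      rw [frob_coeff]
      by_cases hc : c ∈ S
      · rw [Finset.sum_eq_single c]
        · intro b hb hbc
          by_cases hbS : b ∈ S
          · exact absurd ((hfix b hbS).symm.trans (Finset.mem_filter.1 hb).2) hbc
          · rw [red_coeff, hw.2 b hbS, map_zero]
        · exact fun h => absurd (by rw [Finset.mem_filter]; exact ⟨Finset.mem_univ _, hfix c hc⟩) h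
      · rw [red_coeff, hw.2 c hc, map_zero]
        refine (Finset.sum_eq_zero fun b hb => ?_).symm
        by_cases hbS : b ∈ S
        · exact absurd ((hfix b hbS).symm.trans (Finset.mem_filter.1 hb).2 ▸ hbS) hc
        · rw [red_coeff, hw.2 b hbS, map_zero]
    let g : ZMod (p ^ k) → ZMod (p ^ k) := fun v => ((v.val / p : ℕ) : ZMod (p ^ k))
    have hzero : ∀ e, π (d.coeff e) = 0 := by
      refine congrFun (H.eq_of_rot (hdI.comp π) (inv_const (0 : ZMod p)) fun i => ?_)
      rw [← c1_coeff, ← red_coeff, hred]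
      simp
    refine ⟨.ofCoeff (Finsupp.equivFunOnFinite.symm fun e => g (d.coeff e)),
      ⟨fun h hh h1 e => by simpa using congrArg g (hdI h hh h1 e), fun c hc => ?_⟩, ?_⟩
    · have := hdS c hc
      rw [c1_coeff] at this
      simp [g, this]
    · rw [← sub_eq_iff_eq_add', ← hd]
      ext e
      have h0 : ((d.coeff e).val : ZMod p) = 0 := by
        have := hzero e
        rwa [hπ, ZMod.castHom_apply, ← ZMod.natCast_val] at this
      rw [← nsmul_eq_mul, MonoidAlgebra.coeff_smul, Finsupp.smul_apply,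
        MonoidAlgebra.coeff_ofCoeff, Finsupp.coe_equivFunOnFinite_symm, nsmul_eq_mul,
        ← Nat.cast_mul, Nat.mul_div_cancel' ((ZMod.natCast_eq_zero_iff _ _).1 h0),
        ZMod.natCast_zmod_val]
  have hmulT : ∀ j : ℕ, ∀ w w', T w → T w' →
      ∃ t e, T t ∧ InvE K e ∧ w * w' = t + (p ^ j : ℕ) • e := by
    intro j
    induction j with
    | zero =>
      intro w w' hw hw'
      exact ⟨0, w * w', ⟨fun h _ _ d => by simp, fun c _ => by simp⟩, H.invE_mul hw.1 hw'.1, by simp⟩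
    | succ j ih =>
      intro w w' hw hw'
      obtain ⟨τ, hτ, ew⟩ := hsplit w hw
      obtain ⟨τ', hτ', ew'⟩ := hsplit w' hw'
      have hwM : T (w' ^ p ^ N) := ⟨H.invE_pow hw'.1 _, hpow _ hw'.1⟩
      obtain ⟨t1, e1, ht1, he1, h1⟩ := ih τ _ hτ hwM
      obtain ⟨t2, e2, ht2, he2, h2⟩ := ih w τ' hw hτ'
      have hTadd : ∀ {x y}, T x → T y → T (x + y) := fun hx hy =>
        ⟨hx.1.add hy.1, by rw [c1_add]; exact add_mem hx.2 hy.2⟩
      refine ⟨(w * w') ^ p ^ N + p • (t1 + t2), e1 + e2,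
        hTadd ⟨H.invE_pow (H.invE_mul hw.1 hw'.1) _, hpow _ (H.invE_mul hw.1 hw'.1)⟩ ?_,
        he1.add he2, ?_⟩
      · have h12 := hTadd ht1 ht2
        refine ⟨fun h hh hh1 d => by
          simp only [MonoidAlgebra.coeff_smul, Finsupp.smul_apply]
          rw [show (t1 + t2).coeff (h d) = _ from h12.1 h hh hh1 d], fun c hc => ?_⟩
        have := h12.2 c hc
        rw [c1_coeff] at this ⊢
        rw [MonoidAlgebra.coeff_smul, Finsupp.smul_apply, this, smul_zero]
      · calc w * w' = (w ^ p ^ N + p * τ) * w' ^ p ^ N + w * (p * τ') := by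
              conv_lhs => arg 2; rw [ew']
              rw [mul_add]
              conv_lhs => arg 1; arg 1; rw [ew]
          _ = (w * w') ^ p ^ N + p • (τ * w' ^ p ^ N) + p • (w * τ') := by
              have hc : Commute w w' := H.invE_comm hw.1 hw'.1
              rw [add_mul, hc.mul_pow, ← nsmul_eq_mul p τ, ← nsmul_eq_mul p τ', smul_mul_assoc,
                mul_smul_comm]
          _ = _ := by
              rw [h1, h2, pow_succ' p j, mul_nsmul', smul_add, smul_add, smul_add, smul_add, smul_add]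
              abel
  -- the set of points whose suborbit meets the rotations only inside `S`
  let P : DihedralGroup m → Prop := fun y => ∀ h ∈ K, h 1 = 1 → ∀ c, h y = DihedralGroup.r c → c ∈ S
  have hP : Inv K P := by
    intro g hg g1 y
    refine propext ⟨fun hy h hh h1 c hc => ?_, fun hy h hh h1 c hc => ?_⟩
    · refine hy (h * g⁻¹) (K.mul_mem hh (K.inv_mem hg)) ?_ c (by simpa using hc)
      rw [Equiv.Perm.mul_apply, show g⁻¹ 1 = 1 from Equiv.Perm.inv_eq_iff_eq.2 g1.symm, h1]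
    · exact hy (h * g) (K.mul_mem hh hg) (by rw [Equiv.Perm.mul_apply, g1, h1]) c (by simpa using hc)
  have hPr : ∀ c, P (DihedralGroup.r c) → c ∈ S := fun c hc => hc 1 K.one_mem rfl c rfl
  let V : MonoidAlgebra (ZMod (p ^ k)) (DihedralGroup m) :=
    .ofCoeff (Finsupp.equivFunOnFinite.symm fun y => if P y then 1 else 0)
  have hV : T V := ⟨fun h hh h1 y => by simp [V, hP h hh h1 y], fun c hc => by
    simp [V, if_neg (fun h => hc (hPr c h))]⟩
  obtain ⟨t, e, ht, -, hVV⟩ := hmulT k V V hV hV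
  have hVV' : (V * V).coeff = t.coeff := by
    rw [hVV, ← Nat.cast_smul_eq_nsmul (ZMod (p ^ k)), ZMod.natCast_self, zero_smul, add_zero]
  have hclosed : ∀ u v, P u → P v → P (u * v) := by
    intro u v hu hv h hh h1 c hc
    by_contra hcS
    have h0 : (V * V).coeff (DihedralGroup.r c) = 0 := by
      rw [hVV', ← c1_coeff]; exact ht.2 c hcS
    have key : (((Finset.univ.filter fun e => P e ∧ P (e⁻¹ * (u * v))).card : ℕ) : ZMod (p ^ k)) =
        (V * V).coeff (u * v) := by
      rw [coeff_mul', Finset.natCast_card_filter]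
      refine Finset.sum_congr rfl fun e _ => ?_
      by_cases h1 : P e <;> by_cases h2 : P (e⁻¹ * (u * v)) <;> simp [V, h1, h2]
    rw [← hc, show (V * V).coeff (h (u * v)) = (V * V).coeff (u * v) from
        H.invE_mul hV.1 hV.1 h hh h1 (u * v), ← key] at h0
    have h2 := Nat.eq_zero_of_dvd_of_lt ((ZMod.natCast_eq_zero_iff _ _).1 h0)
      (lt_of_le_of_lt (Finset.card_filter_le _ _) (by
        rw [Finset.card_univ, DihedralGroup.card]; exact hbig))
    rw [Finset.card_eq_zero, Finset.filter_eq_empty_iff] at h2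
    exact h2 (Finset.mem_univ u) ⟨hu, by rwa [inv_mul_cancel_left]⟩
  let U : Subgroup (DihedralGroup m) :=
    { carrier := {y | P y}
      mul_mem' := fun {u v} hu hv => hclosed u v hu hv
      one_mem' := fun h _ h1 c hc => by
        rw [h1, DihedralGroup.one_def, DihedralGroup.r.injEq] at hc
        exact hc ▸ S.zero_mem
      inv_mem' := fun {u} hu => show P u⁻¹ by rw [show P u⁻¹ = P u from H.symm hP u]; exact hu }
  rcases H.prim U (fun h hh h1 y hy =>
      show P (h y) by rw [show P (h y) = P y from hP h hh h1 y]; exact hy) with hb | ht'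
  · by_contra hno
    push Not at hno
    exact hx (Subgroup.mem_bot.1 (hb ▸ (show x ∈ U from fun h hh h1 c hc =>
      (hS c).2 (hno h hh h1 c hc))))
  · exfalso
    have h1 : m' • (1 : ZMod m) = 0 :=
      (hS 1).1 (hPr 1 (show DihedralGroup.r 1 ∈ U from ht' ▸ Subgroup.mem_top _))
    rw [nsmul_eq_mul, mul_one, ZMod.natCast_eq_zero_iff, hm] at h1
    have h3 := Nat.le_of_dvd hm'0 h1
    have h4 : p ≤ p ^ a := Nat.le_self_pow ha p
    nlinarith

end CfsgLib.Perm.DihedralBGroup
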