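import Cfsg.Agent.Lib.Perm.DihedralBGroup.RankThree

/-!
A primitive group containing a regular dihedral subgroup is doubly transitive (Wielandt): the rational
part of the transitivity module is trivial, so all suborbits are Galois conjugate, hence of equal size
with equally many rotations, and there is only one.
-/

set_option autoImplicit false
set_option linter.unusedSectionVars false
set_option linter.style.haveILetI false

namespace CfsgLib.Perm.DihedralBGroup

open scoped Pointwise

variable {m : ℕ} [NeZero m] {K : Subgroup (Equiv.Perm (DihedralGroup m))}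

open Classical in
/-- The suborbit of a point. -/
noncomputable def subOrb (K : Subgroup (Equiv.Perm (DihedralGroup m))) (x : DihedralGroup m) :
    Finset (DihedralGroup m) :=
  Finset.univ.filter fun y => ∃ h ∈ K, h 1 = 1 ∧ h x = y

theorem mem_subOrb {x y : DihedralGroup m} : y ∈ subOrb K x ↔ ∃ h ∈ K, h 1 = 1 ∧ h x = y := by
  classical
  simp [subOrb]

theorem self_mem_subOrb (x : DihedralGroup m) : x ∈ subOrb K x :=
  mem_subOrb.2 ⟨1, K.one_mem, rfl, rfl⟩

theorem inv_subOrb (x : DihedralGroup m) : Inv K fun d => d ∈ subOrb K x := by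
  intro k hk k1 y
  refine propext ⟨?_, ?_⟩
  · intro hy
    obtain ⟨h, hh, h1, hy⟩ := mem_subOrb.1 hy
    refine mem_subOrb.2 ⟨k⁻¹ * h, K.mul_mem (K.inv_mem hk) hh, ?_, ?_⟩
    · rw [Equiv.Perm.mul_apply, h1, Equiv.Perm.inv_eq_iff_eq, k1]
    · rw [Equiv.Perm.mul_apply, hy, Equiv.Perm.inv_eq_iff_eq]
  · intro hy
    obtain ⟨h, hh, h1, rfl⟩ := mem_subOrb.1 hy
    exact mem_subOrb.2 ⟨k * h, K.mul_mem hk hh, by rw [Equiv.Perm.mul_apply, h1, k1], rfl⟩

theorem subOrb_subset {P : DihedralGroup m → Prop} (hP : Inv K P) {x : DihedralGroup m} (hx : P x)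
    {y : DihedralGroup m} (hy : y ∈ subOrb K x) : P y := by
  obtain ⟨h, hh, h1, rfl⟩ := mem_subOrb.1 hy
  rw [show P (h x) = P x from hP h hh h1 x]
  exact hx

theorem subOrb_eq {x y : DihedralGroup m} (hy : y ∈ subOrb K x) : subOrb K y = subOrb K x := by
  ext z
  refine ⟨fun hz => subOrb_subset (inv_subOrb x) hy hz, fun hz => ?_⟩
  obtain ⟨h, hh, h1, rfl⟩ := mem_subOrb.1 hy
  obtain ⟨k, hk, k1, rfl⟩ := mem_subOrb.1 hz
  refine mem_subOrb.2 ⟨k * h⁻¹, K.mul_mem hk (K.inv_mem hh), ?_, by simp⟩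
  rw [Equiv.Perm.mul_apply, show h⁻¹ 1 = 1 from Equiv.Perm.inv_eq_iff_eq.2 h1.symm, k1]

theorem one_notMem_subOrb {x : DihedralGroup m} (hx : x ≠ 1) : (1 : DihedralGroup m) ∉ subOrb K x := by
  intro h
  obtain ⟨k, -, k1, hk⟩ := mem_subOrb.1 h
  exact hx (k.injective (hk.trans k1.symm))

theorem sum_coeff_mul {R : Type*} [CommRing R] (a b : MonoidAlgebra R (DihedralGroup m)) :
    ∑ d, (a * b).coeff d = (∑ d, a.coeff d) * ∑ d, b.coeff d := by
  simp only [coeff_mul']
  rw [Finset.sum_comm, Finset.sum_mul]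
  refine Finset.sum_congr rfl fun e _ => ?_
  rw [← Finset.mul_sum]
  congr 1
  exact Fintype.sum_equiv (Equiv.mulLeft e⁻¹) _ _ fun d => rfl

theorem sum_coeff_pow {R : Type*} [CommRing R] (a : MonoidAlgebra R (DihedralGroup m)) :
    ∀ j : ℕ, ∑ d, (a ^ j).coeff d = (∑ d, a.coeff d) ^ j
  | 0 => by
    classical
    simp [MonoidAlgebra.one_def, Finsupp.single_apply]
  | j + 1 => by rw [pow_succ, sum_coeff_mul, sum_coeff_pow a j, pow_succ]

/-- The Galois image of an invariant set. -/
theorem Hyp.exists_transfer (H : Hyp K) (S : Finset (DihedralGroup m))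
    (hS : Inv K fun d => d ∈ S) (s : (ZMod m)ˣ) :
    ∃ P : Finset (DihedralGroup m), (Inv K fun d => d ∈ P) ∧ P.card = S.card ∧
      ∀ c, DihedralGroup.r ((s : ZMod m) * c) ∈ P ↔ DihedralGroup.r c ∈ S := by
  classical
  obtain ⟨q, hq, hodd, hB, hs⟩ := exists_prime_congr s (2 * m)
  haveI := Fact.mk hq
  let X : MonoidAlgebra (ZMod q) (DihedralGroup m) :=
    .ofCoeff (Finsupp.equivFunOnFinite.symm fun d => if d ∈ S then 1 else 0)
  have hX : InvE K X := fun h hh h1 d => by simp [X, hS h hh h1 d]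
  have hu : InvE K (X ^ q) := H.invE_pow hX q
  have hrot : ∀ c, (X ^ q).coeff (DihedralGroup.r ((s : ZMod m) * c)) =
      if DihedralGroup.r c ∈ S then 1 else 0 := fun c => by
    rw [H.coeff_pow_char_unit hodd hX hs]; simp [X]
  have h01 : ∀ d, (X ^ q).coeff d = 0 ∨ (X ^ q).coeff d = 1 := by
    intro d
    have := congrFun (H.eq_of_rot (f := fun e => (X ^ q).coeff e = 0 ∨ (X ^ q).coeff e = 1)
      (g := fun _ => True) (hu.comp fun v => v = 0 ∨ v = 1) (inv_const True) (fun i => by
        obtain ⟨c, rfl⟩ : ∃ c, (s : ZMod m) * c = i :=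
          ⟨(↑s⁻¹ : ZMod m) * i, s.mul_inv_cancel_left i⟩
        refine eq_true ?_
        rw [hrot]
        split_ifs <;> simp)) d
    exact of_eq_true this
  refine ⟨Finset.univ.filter fun d => (X ^ q).coeff d = 1, fun h hh h1 d => ?_, ?_, fun c => ?_⟩
  · simp only [Finset.mem_filter, Finset.mem_univ, true_and,
      show (X ^ q).coeff (h d) = (X ^ q).coeff d from hu h hh h1 d]
  · set P := Finset.univ.filter fun d => (X ^ q).coeff d = 1
    have h2 : ((P.card : ℕ) : ZMod q) = (S.card : ℕ) := by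
      have e1 : ((P.card : ℕ) : ZMod q) = ∑ d, (X ^ q).coeff d := by
        rw [Finset.natCast_card_filter]
        refine Finset.sum_congr rfl fun d _ => ?_
        rcases h01 d with h | h <;> simp [h]
      rw [e1, sum_coeff_pow, ZMod.pow_card]
      simp [X, Finset.sum_ite_mem]
    have hb : ∀ T : Finset (DihedralGroup m), T.card < q := fun T =>
      lt_of_le_of_lt (T.card_le_univ.trans_eq DihedralGroup.card) hB
    have := congrArg ZMod.val h2
    rwa [ZMod.val_natCast, ZMod.val_natCast, Nat.mod_eq_of_lt (hb _), Nat.mod_eq_of_lt (hb _)] at this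
  · simp only [Finset.mem_filter, Finset.mem_univ, true_and, hrot]
    split_ifs with h <;> simp [h]

/-- The stabilizer is transitive on the points other than `1`. -/
theorem Hyp.transitive (H : Hyp K) {x y : DihedralGroup m} (hx : x ≠ 1) (hy : y ≠ 1) :
    y ∈ subOrb K x := by
  classical
  let rotN : Finset (DihedralGroup m) → Finset (ZMod m) := fun T =>
    Finset.univ.filter fun c => DihedralGroup.r c ∈ T
  have key : ∀ u v : DihedralGroup m, u ≠ 1 → v ≠ 1 →
      ∃ s : (ZMod m)ˣ, ∃ P : Finset (DihedralGroup m), (Inv K fun d => d ∈ P) ∧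
        P.card = (subOrb K u).card ∧ (rotN P).card = (rotN (subOrb K u)).card ∧ v ∈ P := by
    intro u v hu hv
    choose P hP hPc hPr using H.exists_transfer (subOrb K u) (inv_subOrb u)
    have hU : Rat' K fun d => ∃ s, d ∈ P s := by
      refine ⟨fun h hh h1 d => propext (exists_congr fun s => iff_of_eq (hP s h hh h1 d)),
        fun t c => propext ?_⟩
      constructor
      · rintro ⟨s, hs⟩
        refine ⟨t⁻¹ * s, ?_⟩
        have e : c = ((t⁻¹ * s : (ZMod m)ˣ) : ZMod m) * ((↑s⁻¹ : ZMod m) * (↑t * c)) := by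
          rw [Units.val_mul, mul_assoc, s.mul_inv_cancel_left, t.inv_mul_cancel_left]
        rw [e, hPr, ← hPr s, s.mul_inv_cancel_left]
        exact hs
      · rintro ⟨s, hs⟩
        refine ⟨t * s, ?_⟩
        have e : c = (s : ZMod m) * ((↑s⁻¹ : ZMod m) * c) := (s.mul_inv_cancel_left c).symm
        rw [e, hPr] at hs
        rw [e, ← mul_assoc, ← Units.val_mul, hPr]
        exact hs
    obtain ⟨h, hh, h1, i, hi⟩ := H.exists_rot u
    have hi1 : DihedralGroup.r i ∈ P 1 := by
      have := hPr 1 i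
      rw [Units.val_one, one_mul] at this
      exact this.2 (mem_subOrb.2 ⟨h, hh, h1, hi⟩)
    have hne : DihedralGroup.r i ≠ 1 := by
      rw [← hi]; exact fun e => hu (h.injective (e.trans h1.symm))
    obtain ⟨s, hs⟩ := H.rat_trivial hU hne hv ⟨1, hi1⟩
    refine ⟨s, P s, hP s, hPc s, ?_, hs⟩
    refine Finset.card_bij' (fun c _ => (↑s⁻¹ : ZMod m) * c) (fun c _ => (s : ZMod m) * c)
      (fun c hc => ?_) (fun c hc => ?_) (fun c _ => s.mul_inv_cancel_left c)
      (fun c _ => s.inv_mul_cancel_left c)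
    · simp only [rotN, Finset.mem_filter, Finset.mem_univ, true_and] at hc ⊢
      rw [← hPr s, s.mul_inv_cancel_left]; exact hc
    · simp only [rotN, Finset.mem_filter, Finset.mem_univ, true_and] at hc ⊢
      exact (hPr s c).2 hc
  have hle : ∀ u v, u ≠ 1 → v ≠ 1 →
      (rotN (subOrb K v)).card ≤ (rotN (subOrb K u)).card := by
    intro u v hu hv
    obtain ⟨s, P, hP, -, hr, hvP⟩ := key u v hu hv
    refine le_of_le_of_eq (Finset.card_le_card fun c hc => ?_) hr
    simp only [rotN, Finset.mem_filter, Finset.mem_univ, true_and] at hc ⊢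
    exact subOrb_subset hP hvP hc
  have hkr : ∀ v, v ≠ 1 → (rotN (subOrb K v)).card = (rotN (subOrb K x)).card := fun v hv =>
    le_antisymm (hle x v hx hv) (hle v x hv hx)
  have hk : ∀ v, v ≠ 1 → (subOrb K v).card = (subOrb K x).card := by
    intro v hv
    obtain ⟨s, P, hP, hc, hr, hvP⟩ := key x v hx hv
    rw [← hc]
    have hsub : rotN (subOrb K v) ⊆ rotN P := fun c h => by
      simp only [rotN, Finset.mem_filter, Finset.mem_univ, true_and] at h ⊢
      exact subOrb_subset hP hvP h
    have heq := Finset.eq_of_subset_of_card_le hsub (by rw [hr, hkr v hv])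
    have hfun := H.eq_of_rot (inv_subOrb v) hP fun i => by
      have := Finset.ext_iff.1 heq i
      simpa [rotN] using this
    exact congrArg _ (Finset.ext fun d => iff_of_eq (congrFun hfun d))
  set t := (Finset.univ.erase (1 : DihedralGroup m)).image (subOrb K) with ht
  have hmemt : ∀ {z}, z ∈ t → ∃ v, v ≠ 1 ∧ subOrb K v = z := fun hz => by
    obtain ⟨v, hv, rfl⟩ := Finset.mem_image.1 hz
    exact ⟨v, Finset.ne_of_mem_erase hv, rfl⟩
  have hfib : ∀ {v}, v ≠ 1 → ∀ d, (d ≠ 1 ∧ subOrb K d = subOrb K v) ↔ d ∈ subOrb K v := by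
    intro v hv d
    refine ⟨fun h => h.2 ▸ self_mem_subOrb d, fun h => ⟨fun e => ?_, subOrb_eq h⟩⟩
    exact one_notMem_subOrb hv (e ▸ h)
  have e1 : 2 * m - 1 = t.card * (subOrb K x).card := by
    have h := Finset.card_eq_sum_card_fiberwise (s := Finset.univ.erase (1 : DihedralGroup m))
      (f := subOrb K) (t := t) fun d hd => Finset.mem_image_of_mem _ hd
    rw [Finset.card_erase_of_mem (Finset.mem_univ _), Finset.card_univ, DihedralGroup.card] at h
    rw [h, Finset.sum_congr rfl fun z hz => ?_, Finset.sum_const, smul_eq_mul]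
    obtain ⟨v, hv, rfl⟩ := hmemt hz
    rw [← hk v hv]
    congr 1
    ext d
    simp only [Finset.mem_filter, Finset.mem_erase, Finset.mem_univ, and_true]
    exact hfib hv d
  have e2 : m - 1 = t.card * (rotN (subOrb K x)).card := by
    have hr0 : ∀ c : ZMod m, DihedralGroup.r c ≠ 1 ↔ c ≠ 0 := fun c => by
      rw [DihedralGroup.one_def, Ne, DihedralGroup.r.injEq]
    have h := Finset.card_eq_sum_card_fiberwise (s := Finset.univ.erase (0 : ZMod m))
      (f := fun c => subOrb K (DihedralGroup.r c)) (t := t) fun d hd =>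
      Finset.mem_image_of_mem _ (Finset.mem_erase.2
        ⟨(hr0 d).2 (Finset.ne_of_mem_erase hd), Finset.mem_univ _⟩)
    rw [Finset.card_erase_of_mem (Finset.mem_univ _), Finset.card_univ, ZMod.card] at h
    rw [h, Finset.sum_congr rfl fun z hz => ?_, Finset.sum_const, smul_eq_mul]
    obtain ⟨v, hv, rfl⟩ := hmemt hz
    rw [← hkr v hv]
    congr 1
    ext d
    simp only [rotN, Finset.mem_filter, Finset.mem_erase, Finset.mem_univ, and_true, true_and,
      ← hr0]
    exact hfib hv _
  have hone : t.card = 1 := by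
    have h1 : t.card ∣ 2 * m - 1 := ⟨_, e1⟩
    have h2 : t.card ∣ 2 * (m - 1) := (Dvd.intro _ e2.symm).mul_left 2
    have h3 := Nat.dvd_sub h1 h2
    rw [show 2 * m - 1 - 2 * (m - 1) = 1 by have := H.two_le; omega] at h3
    exact Nat.dvd_one.1 h3
  have hmem : ∀ v, v ≠ 1 → subOrb K v ∈ t := fun v hv =>
    Finset.mem_image_of_mem _ (Finset.mem_erase.2 ⟨hv, Finset.mem_univ _⟩)
  rw [Finset.card_le_one.1 hone.le _ (hmem x hx) _ (hmem y hy)]
  exact self_mem_subOrb y

/-- **Wielandt.** A primitive group with a regular dihedral subgroup is doubly transitive. -/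
theorem two_transitive {G Ω : Type*} [Group G] [MulAction G Ω] [Finite Ω]
    (hprim : MulAction.IsPreprimitive G Ω) (D : Subgroup G) (n : ℕ)
    (hD : Nonempty (↥D ≃* DihedralGroup n))
    (hDreg : MulAction.IsPretransitive ↥D Ω ∧ ∀ a : Ω, MulAction.stabilizer ↥D a = ⊥) :
    MulAction.IsMultiplyPretransitive G Ω 2 := by
  classical
  obtain ⟨z⟩ := hD
  haveI := hDreg.1
  rcases isEmpty_or_nonempty Ω with hΩ | hΩ
  · exact MulAction.is_two_pretransitive_iff.2 fun {x} => (hΩ.false x).elim
  obtain ⟨a⟩ := hΩ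
  have hb : Function.Bijective fun d : DihedralGroup n => z.symm d • a := by
    refine ⟨fun c d h => ?_, fun v => ?_⟩
    · apply z.symm.injective
      have h1 : (z.symm d)⁻¹ * z.symm c ∈ MulAction.stabilizer D a := by
        rw [MulAction.mem_stabilizer_iff, mul_smul]
        show (z.symm d)⁻¹ • (z.symm c • a) = a
        rw [show z.symm c • a = z.symm d • a from h, inv_smul_smul]
      rw [hDreg.2 a, Subgroup.mem_bot, inv_mul_eq_one] at h1
      exact h1.symm
    · obtain ⟨c, hc⟩ := MulAction.exists_smul_eq D a v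
      exact ⟨z c, by simpa using hc⟩
  let e : DihedralGroup n ≃ Ω := Equiv.ofBijective _ hb
  have he : ∀ d, e d = (z.symm d : G) • a := fun d => rfl
  haveI : NeZero n := ⟨fun h => by
    subst h
    haveI : Finite (DihedralGroup 0) := Finite.of_equiv Ω e.symm
    exact not_finite (DihedralGroup 0)⟩
  rcases Nat.lt_or_ge n 2 with hn | hn
  · -- two points
    obtain rfl : n = 1 := by have := NeZero.ne n; omega
    refine MulAction.is_two_pretransitive_iff.2 fun {x y u v} hxy huv => ?_
    haveI := hprim.toIsPretransitive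
    obtain ⟨g, hg⟩ := MulAction.exists_smul_eq G x u
    refine ⟨g, hg, by_contra fun hne => ?_⟩
    have hgy : g • y ≠ u := fun h => hxy (smul_left_cancel g (hg.trans h.symm))
    haveI := Fintype.ofFinite Ω
    have h3 := Finset.card_le_univ ({u, v, g • y} : Finset Ω)
    rw [← Fintype.card_congr e, DihedralGroup.card, Finset.card_insert_of_notMem (by
      simp [huv, hgy.symm]), Finset.card_insert_of_notMem (by simpa using Ne.symm hne),
      Finset.card_singleton] at h3
    omega
  let φ : G →* Equiv.Perm (DihedralGroup n) :=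
    e.symm.permCongrHom.toMonoidHom.comp (MulAction.toPermHom G Ω)
  have hφ : ∀ g x, φ g x = e.symm (g • e x) := fun g x => by
    simp [φ, Equiv.permCongrHom, Equiv.permCongr_apply]
  have hshift : ∀ d k : DihedralGroup n, (z.symm d : G) • e k = e (d * k) := fun d k => by
    rw [he, he, ← mul_smul, map_mul, Subgroup.coe_mul]
  have hleft : ∀ d, Equiv.mulLeft d ∈ φ.range := fun d =>
    ⟨(z.symm d : G), Equiv.ext fun x => by
      rw [hφ, hshift, Equiv.symm_apply_apply, Equiv.coe_mulLeft]⟩
  have hblock : ∀ U : Subgroup (DihedralGroup n),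
      (∀ h ∈ φ.range, h 1 = 1 → ∀ x ∈ U, h x ∈ U) → U = ⊥ ∨ U = ⊤ := by
    intro U hU
    have hd : ∀ g : G, ∀ u ∈ U, (φ g 1)⁻¹ * φ g u ∈ U := by
      intro g u hu
      have h1 := hU _ (mul_mem (hleft (φ g 1)⁻¹) ⟨g, rfl⟩) (by simp) u hu
      simpa using h1
    have hmem : ∀ (g : G) (v : Ω),
        v ∈ g • (e '' (U : Set (DihedralGroup n))) ↔ (φ g 1)⁻¹ * e.symm v ∈ U := by
      intro g v
      constructor
      · rintro ⟨_, ⟨u, hu, rfl⟩, rfl⟩
        have := hd g u hu
        rwa [hφ g u] at this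
      · intro hv
        refine ⟨g⁻¹ • v, ⟨e.symm (g⁻¹ • v), ?_, Equiv.apply_symm_apply _ _⟩, smul_inv_smul g v⟩
        have h4 : φ g⁻¹ (φ g 1) = 1 := by
          rw [← Equiv.Perm.mul_apply, ← φ.map_mul, inv_mul_cancel, φ.map_one]; rfl
        have h3 := hU (φ g⁻¹ * Equiv.mulLeft (φ g 1))
          (mul_mem ⟨_, rfl⟩ (hleft _)) (by simp [h4]) _ hv
        simp only [Equiv.Perm.mul_apply, Equiv.coe_mulLeft, mul_inv_cancel_left] at h3
        rwa [hφ, Equiv.apply_symm_apply] at h3
    have hB : MulAction.IsBlock G (e '' (U : Set (DihedralGroup n))) := by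
      rw [MulAction.isBlock_iff_smul_eq_or_disjoint]
      intro g
      have hBm : ∀ v, v ∈ e '' (U : Set (DihedralGroup n)) ↔ e.symm v ∈ U := fun v => by
        rw [Equiv.image_eq_preimage_symm]; rfl
      by_cases h0 : φ g 1 ∈ U
      · left
        ext v
        rw [hmem, hBm, Subgroup.mul_mem_cancel_left _ (U.inv_mem h0)]
      · right
        rw [Set.disjoint_left]
        intro v hv hv'
        rw [hmem] at hv
        rw [hBm] at hv'
        exact h0 (by simpa using U.mul_mem hv' (U.inv_mem hv))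
    rcases hprim.isTrivialBlock_of_isBlock hB with h | h
    · left
      refine (Subgroup.eq_bot_iff_forall U).2 fun u hu => ?_
      exact e.injective (h ⟨u, hu, rfl⟩ ⟨1, U.one_mem, rfl⟩)
    · right
      refine (Subgroup.eq_top_iff' U).2 fun u => ?_
      obtain ⟨v, hv, hvu⟩ := (Set.ext_iff.1 h (e u)).2 (Set.mem_univ _)
      exact e.injective hvu ▸ hv
  have H : Hyp φ.range := ⟨hn, hleft, hblock⟩
  refine MulAction.is_two_pretransitive_iff.2 fun {x y u v} hxy huv => ?_
  obtain ⟨k, hk, k1, hkx⟩ := mem_subOrb.1 (H.transitive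
    (x := (e.symm x)⁻¹ * e.symm y) (y := (e.symm u)⁻¹ * e.symm v)
    (fun h => hxy (e.symm.injective (inv_mul_eq_one.1 h)))
    (fun h => huv (e.symm.injective (inv_mul_eq_one.1 h))))
  obtain ⟨g, hg⟩ := mul_mem (mul_mem (hleft (e.symm u)) hk) (hleft (e.symm x)⁻¹)
  have hap : ∀ w, g • w = e (e.symm u * k ((e.symm x)⁻¹ * e.symm w)) := fun w => by
    have h := congrArg (fun π : Equiv.Perm (DihedralGroup n) => e (π (e.symm w))) hg
    simp only [hφ, Equiv.apply_symm_apply, Equiv.Perm.mul_apply, Equiv.coe_mulLeft] at h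
    exact h
  refine ⟨g, ?_, ?_⟩
  · rw [hap, inv_mul_cancel, k1, mul_one, Equiv.apply_symm_apply]
  · rw [hap, hkx, mul_inv_cancel_left, Equiv.apply_symm_apply]

end CfsgLib.Perm.DihedralBGroup
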