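import Cfsg.Agent.Lib.Perm.DihedralBGroup.CyclicSet

/-!
The rational part of the transitivity module of a primitive group with a regular dihedral subgroup
is trivial: rational invariant functions are constant away from `1`.
-/

set_option autoImplicit false
set_option linter.unusedSectionVars false
set_option linter.unusedSimpArgs false

namespace CfsgLib.Perm.DihedralBGroup

variable {m : ℕ} [NeZero m] {K : Subgroup (Equiv.Perm (DihedralGroup m))}

/-- The indicator element of a predicate. -/
noncomputable def indD (P : DihedralGroup m → Prop) [DecidablePred P] :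
    MonoidAlgebra ℤ (DihedralGroup m) :=
  .ofCoeff (Finsupp.equivFunOnFinite.symm fun d => if P d then 1 else 0)

@[simp] theorem indD_coeff (P : DihedralGroup m → Prop) [DecidablePred P] (d : DihedralGroup m) :
    (indD P).coeff d = if P d then 1 else 0 := rfl

theorem indD_rat {P : DihedralGroup m → Prop} [DecidablePred P] (hP : Rat' K P) :
    RatE K (indD P) := by
  have := hP.comp fun b => @ite ℤ b (Classical.propDecidable b) 1 0
  refine ⟨fun h hh h1 x => ?_, fun s c => ?_⟩
  · simp only [indD_coeff, hP.inv h hh h1 x]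
  · simp only [indD_coeff, hP.units s c]

/-- The element killing the functions which are periodic modulo the subgroup of order `p`. -/
noncomputable def om (m p : ℕ) [NeZero m] : AddMonoidAlgebra ℤ (ZMod m) :=
  (p : ℤ) • 1 - indE ℤ (Finset.univ.filter fun z => p • z = 0)

theorem mul_om_coeff (f : AddMonoidAlgebra ℤ (ZMod m)) (p : ℕ) (c : ZMod m) :
    (f * om m p).coeff c = (p : ℤ) * f.coeff c -
      ∑ z ∈ Finset.univ.filter (fun z => p • z = 0), f.coeff (c - z) := by
  classical
  rw [om, mul_sub, mul_smul_comm, mul_one, AddMonoidAlgebra.coeff_sub, Finsupp.sub_apply,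
    smul_mul_coeff]
  congr 1
  rw [mul_comm f, coeff_mul_add]
  simp only [indE, el_coeff, ite_mul, one_mul, zero_mul, Finset.sum_ite_mem, Finset.univ_inter,
    neg_add_eq_sub]

section Fixed

variable {p : ℕ} {q0 : ZMod m}

/-- The difference of the values at `1` and at the element of order `p`. -/
def eps (q0 : ZMod m) (x : MonoidAlgebra ℤ (DihedralGroup m)) : ℤ :=
  x.coeff 1 - x.coeff (DihedralGroup.r q0)

/-- The scalar by which `rev (c2 x) * c2 y` acts on `om`. -/
noncomputable def sc (q0 : ZMod m) (x y : MonoidAlgebra ℤ (DihedralGroup m)) : ℤ :=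
  eps q0 (x * y) - eps q0 x * eps q0 y

theorem Hyp.star (H : Hyp K) (hp : GoodPrime m p) (hq : p • q0 = 0) (hq0 : q0 ≠ 0)
    {x : MonoidAlgebra ℤ (DihedralGroup m)} (hx : RatE K x) :
    c1 x * om m p = eps q0 x • om m p := by
  classical
  haveI := Fact.mk hp.prime
  ext c
  rw [mul_om_coeff, smul_mul_coeff, om, AddMonoidAlgebra.coeff_sub, Finsupp.sub_apply,
    smul_mul_coeff]
  simp only [c1_coeff, indE, el_coeff, AddMonoidAlgebra.one_def, AddMonoidAlgebra.coeff_single,
    Finsupp.single_apply, Finset.mem_filter, Finset.mem_univ, true_and]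
  by_cases hc : p • c = 0
  · rw [if_pos hc]
    have h1 : ∑ z ∈ Finset.univ.filter (fun z => p • z = 0), x.coeff (DihedralGroup.r (c - z)) =
        x.coeff 1 + ((p : ℤ) - 1) * x.coeff (DihedralGroup.r q0) := by
      have hcm : c ∈ Finset.univ.filter (fun z : ZMod m => p • z = 0) := by
        rw [Finset.mem_filter]; exact ⟨Finset.mem_univ _, hc⟩
      rw [← Finset.add_sum_erase _ _ hcm, sub_self, DihedralGroup.r_zero]
      congr 1
      rw [Finset.sum_congr rfl (g := fun _ => x.coeff (DihedralGroup.r q0)) fun z hz => by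
        obtain ⟨hne, hz'⟩ := Finset.mem_erase.1 hz
        exact hx.eq_on_torsion (p := p) (by
          rw [smul_sub, hc, (Finset.mem_filter.1 hz').2, sub_zero]) (sub_ne_zero.2 (Ne.symm hne))
          hq hq0, Finset.sum_const, Finset.card_erase_of_mem hcm, card_torsion hp.dvd, nsmul_eq_mul,
        Nat.cast_sub hp.prime.one_le, Nat.cast_one]
    rw [h1]
    by_cases hc0 : c = 0
    · subst hc0
      rw [if_pos rfl, DihedralGroup.r_zero, eps]; ring
    · rw [if_neg (Ne.symm hc0), hx.eq_on_torsion (p := p) hc hc0 hq hq0, eps]; ring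
  · have hc0 : (0 : ZMod m) ≠ c := fun e => hc (e ▸ smul_zero p)
    rw [if_neg hc, if_neg hc0]
    rw [Finset.sum_congr rfl (g := fun _ => x.coeff (DihedralGroup.r c)) fun z hz => by
      have := H.rat_period hp hx (q := -z) hc (by rw [smul_neg, (Finset.mem_filter.1 hz).2, neg_zero])
      rw [← sub_eq_add_neg] at this
      exact this, Finset.sum_const, card_torsion hp.dvd, nsmul_eq_mul]
    ring

theorem Hyp.pair (H : Hyp K) (hp : GoodPrime m p) (hq : p • q0 = 0) (hq0 : q0 ≠ 0)
    {x y : MonoidAlgebra ℤ (DihedralGroup m)} (hx : RatE K x) (hy : RatE K y) :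
    rev (c2 x) * c2 y * om m p = sc q0 x y • om m p := by
  have h1 := congrArg (· * om m p) (c1_mul x y)
  simp only [H.star hp hq hq0 (H.ratE_mul hx hy), add_mul, mul_assoc (c1 x),
    H.star hp hq hq0 hy, mul_smul_comm, H.star hp hq hq0 hx, smul_smul] at h1
  rw [sc, sub_smul, h1, mul_comm (eps q0 y)]
  abel

theorem Hyp.chain (H : Hyp K) (hp : GoodPrime m p) (hq : p • q0 = 0) (hq0 : q0 ≠ 0)
    {x y : MonoidAlgebra ℤ (DihedralGroup m)} (hx : RatE K x) (hy : RatE K y) :
    sc q0 y y • (c2 x * om m p) = sc q0 x y • (c2 y * om m p) := by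
  rw [← mul_smul_comm, ← H.pair hp hq hq0 hy hy, ← mul_smul_comm,
    show sc q0 x y = sc q0 y x by rw [sc, sc, H.invE_comm hx.inv hy.inv, mul_comm (eps q0 x)],
    ← H.pair hp hq hq0 hy hx]
  ring

theorem om_coeff_zero (hp : GoodPrime m p) : (om m p).coeff 0 = (p : ℤ) - 1 := by
  classical
  simp [om, indE, AddMonoidAlgebra.one_def, Finsupp.single_apply]

/-- If `sc X X ≤ 0` then the reflection part of `X` is periodic. -/
theorem Hyp.period_of_sc (H : Hyp K) (hp : GoodPrime m p) (hq : p • q0 = 0) (hq0 : q0 ≠ 0)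
    {P : DihedralGroup m → Prop} [DecidablePred P] (hP : Rat' K P)
    (hs : sc q0 (indD P) (indD P) ≤ 0) (i : ZMod m) :
    P (DihedralGroup.sr (i + q0)) ↔ P (DihedralGroup.sr i) := by
  classical
  set b : ZMod m → ℤ := fun i => if P (DihedralGroup.sr i) then 1 else 0 with hb
  have h := congrArg (fun a => a.coeff 0) (H.pair hp hq hq0 (indD_rat hP) (indD_rat hP))
  simp only [mul_om_coeff, smul_mul_coeff, om_coeff_zero hp, zero_sub, rev_mul_coeff, c2_coeff,
    indD_coeff, add_zero] at h
  change (p : ℤ) * ∑ i, b i * b i - ∑ z ∈ _, ∑ i, b i * b (i + -z) = _ at h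
  have hterm : ∀ z i, 0 ≤ b i * b i - b i * b (i + -z) := fun z i => by
    simp only [hb]; split_ifs <;> norm_num
  have h2 : ∑ z ∈ Finset.univ.filter (fun z : ZMod m => p • z = 0),
      ∑ i, (b i * b i - b i * b (i + -z)) ≤ 0 := by
    rw [Finset.sum_congr rfl fun z _ => Finset.sum_sub_distrib _ _, Finset.sum_sub_distrib,
      Finset.sum_const, card_torsion (m := m) (p := p) (hp := ⟨hp.prime⟩) hp.dvd, nsmul_eq_mul, h]
    exact mul_nonpos_of_nonpos_of_nonneg hs (by have := hp.prime.one_le; omega)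
  have hfwd : ∀ z, p • z = 0 → ∀ i, P (DihedralGroup.sr i) → P (DihedralGroup.sr (i + -z)) := by
    intro z hz i hi
    have h3 := (Finset.sum_eq_zero_iff_of_nonneg fun z _ => Finset.sum_nonneg fun i _ => hterm z i).1
      (le_antisymm h2 (Finset.sum_nonneg fun z _ => Finset.sum_nonneg fun i _ => hterm z i)) z
      (by simpa using hz)
    have h4 := (Finset.sum_eq_zero_iff_of_nonneg fun i _ => hterm z i).1 h3 i (Finset.mem_univ _)
    by_contra hne
    simp [hb, hi, hne] at h4
  refine ⟨fun hi => ?_, fun hi => ?_⟩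
  · simpa using hfwd q0 hq (i + q0) hi
  · simpa using hfwd (-q0) (by rw [smul_neg, hq, neg_zero]) i hi

/-- A set with periodic rotation part and nonpositive scalar is trivial. -/
theorem Hyp.const_of_sc (H : Hyp K) (hp : GoodPrime m p) (hq : p • q0 = 0) (hq0 : q0 ≠ 0)
    {P : DihedralGroup m → Prop} [DecidablePred P] (hP : Rat' K P)
    (hs : sc q0 (indD P) (indD P) ≤ 0) (b : Prop) (hb : b ↔ P (DihedralGroup.r q0))
    (x : DihedralGroup m) (hx : x ≠ 1) : P x ↔ b := by
  classical
  haveI := Fact.mk hp.prime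
  let P' : DihedralGroup m → Prop := fun d => if d = 1 then b else P d
  have hP' : Rat' K P' := by
    have := ((rat_delta (K := K) True False).comp₂ hP fun e f => @ite Prop e (Classical.propDecidable e) b f)
    convert this using 2 with d
    by_cases h : d = 1 <;> simp [P', h]
  have hrot : ∀ z, p • z = 0 → (P' (DihedralGroup.r z) ↔ b) := by
    intro z hz
    rcases eq_or_ne z 0 with rfl | hz0
    · simp [P', DihedralGroup.r_zero]
    · have h1 : DihedralGroup.r z ≠ 1 := by
        rw [DihedralGroup.one_def, Ne, DihedralGroup.r.injEq]; exact hz0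
      simp only [P', if_neg h1]
      rw [hb, hP.eq_on_torsion (p := p) hz hz0 hq hq0]
  have hper : ∀ d, P' (d * DihedralGroup.r q0) = P' d := by
    intro d
    cases d with
    | r i =>
      rw [DihedralGroup.r_mul_r]
      by_cases hi : p • i = 0
      · exact propext ((hrot _ (by rw [smul_add, hi, hq, add_zero])).trans (hrot i hi).symm)
      · exact H.rat_period hp hP' hi hq
    | sr i =>
      rw [DihedralGroup.sr_mul_r]
      have h1 : ∀ j : ZMod m, DihedralGroup.sr j ≠ 1 := fun j h => by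
        rw [DihedralGroup.one_def] at h; exact nomatch h
      simp only [P', if_neg (h1 _)]
      exact propext (H.period_of_sc hp hq hq0 hP hs i)
  have := H.no_period hP'.inv (s := DihedralGroup.r q0) (by
    rw [DihedralGroup.one_def, Ne, DihedralGroup.r.injEq]; exact hq0) hper x 1
  simpa [P', hx] using this

theorem Hyp.sc_neg (H : Hyp K) (hp : GoodPrime m p) (hq : p • q0 = 0) (hq0 : q0 ≠ 0)
    {P P' : DihedralGroup m → Prop} [DecidablePred P] [DecidablePred P'] (hP : Rat' K P)
    (hP' : Rat' K P') (h1 : ¬ P 1) (hne : ¬ P (DihedralGroup.r q0)) (hdis : ∀ d, P d → ¬ P' d)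
    (hs : 0 < sc q0 (indD P) (indD P)) (hs' : 0 < sc q0 (indD P') (indD P')) :
    sc q0 (indD P) (indD P') < 0 := by
  classical
  have heps : eps q0 (indD P) = 0 := by simp [eps, h1, hne]
  have hz : (indD P * indD P').coeff 1 = 0 := by
    rw [coeff_mul']
    refine Finset.sum_eq_zero fun e _ => ?_
    rw [mul_one, show (indD P').coeff e⁻¹ = (indD P').coeff e from
      H.symm (indD_rat hP').inv e]
    by_cases he : P e
    · simp [he, hdis e he]
    · simp [he]
  have hle : sc q0 (indD P) (indD P') ≤ 0 := by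
    rw [sc, heps, zero_mul, sub_zero, eps, hz, zero_sub, neg_nonpos, coeff_mul']
    exact Finset.sum_nonneg fun e _ => mul_nonneg (by simp; split_ifs <;> norm_num)
      (by simp; split_ifs <;> norm_num)
  refine lt_of_le_of_ne hle fun h0 => ?_
  have h2 := H.chain hp hq hq0 (indD_rat hP) (indD_rat hP')
  rw [h0, zero_smul] at h2
  have h3 : c2 (indD P) * om m p = 0 := by
    ext c
    have := congrArg (fun a => a.coeff c) h2
    simp only [smul_mul_coeff, AddMonoidAlgebra.coeff_zero, Finsupp.zero_apply] at this ⊢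
    exact (mul_eq_zero.1 this).resolve_left hs'.ne'
  have h4 := H.pair hp hq hq0 (indD_rat hP) (indD_rat hP)
  rw [mul_assoc, h3, mul_zero] at h4
  have h5 := congrArg (fun a => a.coeff 0) h4
  simp only [smul_mul_coeff, om_coeff_zero hp, AddMonoidAlgebra.coeff_zero, Finsupp.zero_apply] at h5
  have := hp.prime.two_le
  rcases mul_eq_zero.1 h5.symm with h | h <;> omega

theorem Hyp.no_three (H : Hyp K) (hp : GoodPrime m p) (hq : p • q0 = 0) (hq0 : q0 ≠ 0)
    {X Y Z : DihedralGroup m → Prop} [DecidablePred X] [DecidablePred Y] [DecidablePred Z]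
    (hX : Rat' K X) (hY : Rat' K Y) (hZ : Rat' K Z)
    (hX1 : ¬ X 1) (hXq : ¬ X (DihedralGroup.r q0)) (hY1 : ¬ Y 1) (hYq : ¬ Y (DihedralGroup.r q0))
    (hXY : ∀ d, X d → ¬ Y d) (hXZ : ∀ d, X d → ¬ Z d) (hYZ : ∀ d, Y d → ¬ Z d)
    (sX : 0 < sc q0 (indD X) (indD X)) (sY : 0 < sc q0 (indD Y) (indD Y))
    (sZ : 0 < sc q0 (indD Z) (indD Z)) : False := by
  have a1 := H.sc_neg hp hq hq0 hX hY hX1 hXq hXY sX sY
  have a2 := H.sc_neg hp hq hq0 hX hZ hX1 hXq hXZ sX sZ
  have a3 := H.sc_neg hp hq hq0 hY hZ hY1 hYq hYZ sY sZ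
  have h1 := congrArg (rev (c2 (indD X)) * ·) (H.chain hp hq hq0 (indD_rat hZ) (indD_rat hY))
  simp only [mul_smul_comm, ← mul_assoc, H.pair hp hq hq0 (indD_rat hX) (indD_rat hZ),
    H.pair hp hq hq0 (indD_rat hX) (indD_rat hY), smul_smul] at h1
  have h2 := congrArg (fun a => a.coeff 0) h1
  simp only [smul_mul_coeff, om_coeff_zero hp] at h2
  have h3 : sc q0 (indD Z) (indD Y) = sc q0 (indD Y) (indD Z) := by
    rw [sc, sc, H.invE_comm (indD_rat hZ).inv (indD_rat hY).inv, mul_comm (eps q0 (indD Z))]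
  rw [h3] at h2
  have hp1 : (0 : ℤ) < (p : ℤ) - 1 := by have := hp.prime.two_le; omega
  have h4 := mul_right_cancel₀ hp1.ne' h2
  nlinarith [mul_pos sY (neg_pos.2 a2), mul_pos (neg_pos.2 a3) (neg_pos.2 a1)]

end Fixed

/-- The arithmetic of the rank three case. -/
theorem numerics {m β c1' c2' : ℕ} {k1 k2 lam : ℤ} (h1 : k1 = c1') (h2 : k2 = c2') (hβ0 : β ≠ 0)
    (hβ : β = (k1 - k2).natAbs) (s2 : 2 * k1 * k2 = lam * m)
    (hlam : k1 + k2 = (β : ℤ) ^ 2 + lam) (hle : c1' ≤ m) (hcases' : c1' = β ∨ m - c1' = β)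
    (hk2pos : 0 < k2) (hk2m : k2 < m) : m = 8 ∧ β = 2 := by
  have hcases : k1 = β ∨ (m : ℤ) - k1 = β := by omega
  have hk2eq : k2 = k1 + β ∨ k2 = k1 - β := by omega
  have hlam2 : lam = k1 + k2 - (β : ℤ) ^ 2 := by omega
  have hb0 : (β : ℤ) ≠ 0 := by exact_mod_cast hβ0
  have hkey : (m : ℤ) * (3 - β) = 4 * β := by
    rcases hcases with e | e <;> rcases hk2eq with e' | e'
    · rw [hlam2, e', e] at s2
      refine mul_left_cancel₀ hb0 ?_
      linear_combination -s2
    · exfalso; omega
    · exfalso; omega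
    · rw [hlam2, e', show k1 = (m : ℤ) - β by omega] at s2
      refine mul_left_cancel₀ hb0 ?_
      linear_combination -s2
  have hb3 : β < 3 := by
    by_contra h
    have : (m : ℤ) * (3 - β) ≤ 0 := mul_nonpos_of_nonneg_of_nonpos (by omega) (by omega)
    omega
  interval_cases β <;> omega

theorem torsion_eight :
    (Finset.univ.filter fun z : ZMod 8 => 2 • z = 0) = {0, 4} := by decide

theorem torsion_eight_mem {z : ZMod 8} (h : 2 • z = 0) (h0 : z ≠ 0) : z = 4 := by
  revert h h0; revert z; decide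

/-- The case of eight rotations. -/
theorem no_transversal : ∀ b : ZMod 8 → Bool,
    ¬ ((∑ i : ZMod 8, ((if b i then (1 : ℤ) else 0) * ((if b i then 1 else 0) - if b (i + 4) then 1 else 0))) = 4 ∧
      (∑ i : ZMod 8, ((if b i then (1 : ℤ) else 0) * ((if b (i + 1) then 1 else 0) - if b (i + 5) then 1 else 0))) = 0) := by
  decide +kernel

set_option maxHeartbeats 400000 in
/-- Rational invariant sets are trivial. -/
theorem Hyp.rat_trivial (H : Hyp K) {P : DihedralGroup m → Prop} (hP : Rat' K P)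
    {x y : DihedralGroup m} (hx : x ≠ 1) (hy : y ≠ 1) (hPx : P x) : P y := by
  classical
  obtain ⟨p, hp⟩ := exists_goodPrime (m := m) H.two_le
  haveI := Fact.mk hp.prime
  obtain ⟨q0, hq, hq0⟩ : ∃ z : ZMod m, p • z = 0 ∧ z ≠ 0 := by
    obtain ⟨z, hz, hne⟩ := Finset.exists_mem_ne (s := Finset.univ.filter fun z : ZMod m => p • z = 0)
      (by rw [card_torsion hp.dvd]; exact hp.prime.one_lt) 0
    exact ⟨z, (Finset.mem_filter.1 hz).2, hne⟩
  have hr1 : DihedralGroup.r q0 ≠ 1 := by
    rw [DihedralGroup.one_def, Ne, DihedralGroup.r.injEq]; exact hq0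
  have hsr : ∀ j : ZMod m, DihedralGroup.sr j ≠ 1 := fun j h => by
    rw [DihedralGroup.one_def] at h; exact nomatch h
  -- the atom of the element of order `p`
  let W : DihedralGroup m → Prop := fun d =>
    ∀ T : DihedralGroup m → Prop, Rat' K T → T (DihedralGroup.r q0) → T d
  have hW : Rat' K W := by
    refine ⟨fun h hh h1 d => propext ?_, fun s c => propext ?_⟩
    · exact forall_congr' fun T => forall_congr' fun hT => by rw [show T (h d) = T d from hT.inv h hh h1 d]
    · exact forall_congr' fun T => forall_congr' fun hT => by rw [hT.units s c]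
  have hW1 : ¬ W 1 := fun h => by
    have := h (fun d => d ≠ 1) ((rat_delta (K := K) False True).comp id |> fun hd => by
      convert hd using 2 with d
      by_cases e : d = 1 <;> simp [e]) hr1
    exact this rfl
  have hWq : W (DihedralGroup.r q0) := fun T _ h => h
  suffices hall : ∀ d, d ≠ 1 → W d by
    by_cases hPq : P (DihedralGroup.r q0)
    · exact hall y hy P hP hPq
    · exact absurd hPx (hall x hx (fun d => ¬ P d) (hP.comp Not) hPq)
  let Y : DihedralGroup m → Prop := fun d => d ≠ 1 ∧ ¬ W d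
  have hY : Rat' K Y := by
    have := (rat_delta (K := K) False True).comp₂ hW fun e f => e ∧ ¬ f
    convert this using 2 with d
    by_cases e : d = 1 <;> simp [Y, e]
  by_contra hne
  push Not at hne
  obtain ⟨d0, hd0, hd0W⟩ := hne
  have hYd : Y d0 := ⟨hd0, hd0W⟩
  have hY1 : ¬ Y 1 := fun h => h.1 rfl
  have hYq : ¬ Y (DihedralGroup.r q0) := fun h => h.2 hWq
  have sW : 0 < sc q0 (indD W) (indD W) := by
    by_contra hle
    exact hd0W ((H.const_of_sc hp hq hq0 hW (not_lt.1 hle) True (iff_of_true trivial hWq) d0 hd0).2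
      trivial)
  have hpos : ∀ {X : DihedralGroup m → Prop} [DecidablePred X], Rat' K X →
      ¬ X (DihedralGroup.r q0) → ∀ d, d ≠ 1 → X d → 0 < sc q0 (indD X) (indD X) := by
    intro X _ hX hXq d hd hXd
    by_contra hle
    exact (H.const_of_sc hp hq hq0 hX (not_lt.1 hle) False (iff_of_false id hXq) d hd).1 hXd
  have sY : 0 < sc q0 (indD Y) (indD Y) := hpos hY hYq d0 hd0 hYd
  -- the square of `Y` has three values
  set F := indD Y * indD Y with hF
  have hFR : Rat' K fun e => F.coeff e := H.ratE_mul (indD_rat hY) (indD_rat hY)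
  clear_value F
  have hFW : ∀ d, W d → F.coeff d = F.coeff (DihedralGroup.r q0) := fun d hd =>
    hd (fun e => F.coeff e = F.coeff (DihedralGroup.r q0))
      (hFR.comp fun v => v = F.coeff (DihedralGroup.r q0)) rfl
  have hFY : ∀ d, Y d → F.coeff d = F.coeff d0 := by
    intro d hd
    by_contra hne'
    let X1 : DihedralGroup m → Prop := fun e => Y e ∧ F.coeff e = F.coeff d0
    let X2 : DihedralGroup m → Prop := fun e => Y e ∧ F.coeff e ≠ F.coeff d0
    have hX1 : Rat' K X1 := hY.comp₂ hFR fun a v => a ∧ v = F.coeff d0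
    have hX2 : Rat' K X2 := hY.comp₂ hFR fun a v => a ∧ v ≠ F.coeff d0
    exact H.no_three hp hq hq0 hX1 hX2 hW (fun h => hY1 h.1) (fun h => hYq h.1) (fun h => hY1 h.1)
      (fun h => hYq h.1) (fun e h1 h2 => h2.2 h1.2) (fun e h hw => h.1.2 hw)
      (fun e h hw => h.1.2 hw) (hpos hX1 (fun h => hYq h.1) d0 hd0 ⟨hYd, rfl⟩)
      (hpos hX2 (fun h => hYq h.1) d hd.1 ⟨hd, hne'⟩) sW
  clear hpos
  set k := F.coeff 1
  set lam := F.coeff d0 with hlam
  set mu := F.coeff (DihedralGroup.r q0) with hmu
  -- the coordinates of `Y`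
  set T1 := Finset.univ.filter fun i : ZMod m => Y (DihedralGroup.r i) with hT1
  set T2 := Finset.univ.filter fun i : ZMod m => Y (DihedralGroup.sr i) with hT2
  have ea : c1 (indD Y) = indE ℤ T1 := by ext i; simp [T1, indE]
  have eb : c2 (indD Y) = indE ℤ T2 := by ext i; simp [T2, indE]
  have ha0 : c1 (indD Y) * om m p = 0 := by
    rw [H.star hp hq hq0 (indD_rat hY), show eps q0 (indD Y) = 0 by simp [eps, hY1, hYq], zero_smul]
  have hc2F : c2 F = lam • c2 (indD Y) + mu • (allE ℤ m - c2 (indD Y)) := by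
    ext i
    simp only [AddMonoidAlgebra.coeff_add, Finsupp.add_apply, smul_mul_coeff,
      AddMonoidAlgebra.coeff_sub, Finsupp.sub_apply, c2_coeff, indD_coeff, allE_coeff]
    by_cases h : Y (DihedralGroup.sr i)
    · simp [h, hFY _ h]
    · have hw : W (DihedralGroup.sr i) := by_contra fun hw => h ⟨hsr i, hw⟩
      simp [h, hFW _ hw, mu]
  have hmul2 : c2 F = c1 (indD Y) * c2 (indD Y) + c2 (indD Y) * c1 (indD Y) := by
    rw [hF]; exact H.c2_mul_sym (indD_rat hY).inv _
  have haug : aug (om m p) = 0 := by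
    rw [om, map_sub, aug_smul, map_one, aug_indE, card_torsion hp.dvd]; simp
  have hlm : lam = mu := by
    by_contra hne'
    have h1 := congrArg (· * om m p) (hmul2.symm.trans hc2F)
    simp only [add_mul, mul_comm (c2 (indD Y)) (c1 (indD Y)), mul_assoc, smul_mul_assoc, sub_mul,
      mul_comm (allE ℤ m) (om m p), mul_allE, haug] at h1
    rw [mul_comm (c2 (indD Y)) (om m p), ← mul_assoc, ha0, zero_mul, add_zero, zero_smul, zero_sub,
      smul_neg, ← sub_eq_add_neg, ← sub_smul] at h1
    have h0 : c2 (indD Y) * om m p = 0 := by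
      ext c
      have := congrArg (fun a => a.coeff c) h1
      simp only [smul_mul_coeff, AddMonoidAlgebra.coeff_zero, Finsupp.zero_apply,
        mul_comm (om m p)] at this ⊢
      exact (mul_eq_zero.1 this.symm).resolve_left (sub_ne_zero.2 hne')
    have h4 := H.pair hp hq hq0 (indD_rat hY) (indD_rat hY)
    rw [mul_assoc, h0, mul_zero] at h4
    have h5 := congrArg (fun a => a.coeff 0) h4
    simp only [smul_mul_coeff, om_coeff_zero hp, AddMonoidAlgebra.coeff_zero, Finsupp.zero_apply] at h5
    rcases mul_eq_zero.1 h5.symm with h | h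
    · exact sY.ne' h
    · exact absurd (sub_eq_zero.1 h) (by exact_mod_cast hp.prime.one_lt.ne')
  set N := k - lam with hN
  have hsN : sc q0 (indD Y) (indD Y) = N := by
    rw [sc, show eps q0 (indD Y) = 0 by simp [eps, hY1, hYq], zero_mul, sub_zero, eps, ← hF, ← hmu,
      ← hlm]
  have hF1 : c1 F = N • 1 + lam • allE ℤ m := by
    ext i
    simp only [AddMonoidAlgebra.coeff_add, Finsupp.add_apply, smul_mul_coeff, c1_coeff, allE_coeff]
    by_cases hi : i = 0
    · subst hi
      simp [AddMonoidAlgebra.one_def, DihedralGroup.r_zero, N, k]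
    · have hne1 : DihedralGroup.r i ≠ 1 := by
        rw [DihedralGroup.one_def, Ne, DihedralGroup.r.injEq]; exact hi
      have hv : F.coeff (DihedralGroup.r i) = lam := by
        by_cases h : Y (DihedralGroup.r i)
        · exact hFY _ h
        · rw [hFW _ (by_contra fun hw => h ⟨hne1, hw⟩), hlm]
      simp [AddMonoidAlgebra.one_def, Finsupp.single_apply, Ne.symm hi, hv]
  have hF2 : c2 F = lam • allE ℤ m := by
    rw [hc2F, ← hlm, smul_sub]; abel
  set a := indE ℤ T1 with ha
  set b := indE ℤ T2 with hb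
  have eq1 : a * a + rev b * b = N • 1 + lam • allE ℤ m := by
    rw [← hF1, hF, c1_mul, ea, eb]
  have eq2 : a * b + b * a = lam • allE ℤ m := by
    rw [← hF2, hmul2, ea, eb]
  have hrev : aug (rev b) = aug b := by
    simp only [aug_apply, rev_coeff]
    exact Fintype.sum_equiv (Equiv.neg _) _ _ fun _ => rfl
  set k1 := (T1.card : ℤ) with hk1
  set k2 := (T2.card : ℤ) with hk2
  have s1 : k1 * k1 + k2 * k2 = N + lam * m := by
    have := congrArg (fun z => aug z) eq1
    simp only [map_add, map_mul, hrev, aug_smul, map_one, aug_allE, mul_one] at this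
    rw [ha, hb, aug_indE, aug_indE] at this
    exact this
  have s2 : 2 * k1 * k2 = lam * m := by
    have := congrArg (fun z => aug z) eq2
    simp [map_add, map_mul, aug_smul, aug_allE, ha, hb, aug_indE] at this
    linarith
  set β := (k1 - k2).natAbs with hβ
  have hNβ : N = (β : ℤ) ^ 2 := by
    rw [hβ, Int.natAbs_sq]; linarith [s1, s2]
  have hβ0 : β ≠ 0 := by
    intro h
    rw [hsN, hNβ, h] at sY
    simp at sY
  -- the cubic equation for the rotation part
  have hau : (2 : ℤ) • (a * (rev b * b)) = (lam * k2) • allE ℤ m := by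
    have : (2 : ℤ) • (a * (rev b * b)) = rev b * (a * b + b * a) := by
      rw [two_zsmul]; ring
    rw [this, eq2, mul_smul_comm, mul_allE, hrev, hb, aug_indE, smul_smul]
  have hcube2 : (2 : ℤ) • a ^ 3 = (2 * N) • a + (2 * lam * k1 - lam * k2) • allE ℤ m := by
    have h1 := congrArg (fun z => (2 : ℤ) • (a * z)) eq1
    simp only [mul_add, smul_add, mul_smul_comm, mul_one, mul_allE, hau] at h1
    rw [show aug a = k1 by rw [ha, aug_indE]] at h1
    rw [show a ^ 3 = a * (a * a) by ring]
    simp only [smul_smul] at h1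
    linear_combination (norm := module) h1
  have hCube : CubeEq m T1 β ((a ^ 3).coeff 0) := by
    refine ⟨by simp [T1, DihedralGroup.r_zero, hY1], ?_, fun s c => ?_, hβ0, ?_⟩
    · obtain ⟨h, hh, h1, i, hi⟩ := H.exists_rot d0
      refine ⟨i, ?_⟩
      rw [hT1, Finset.mem_filter, ← hi, show Y (h d0) = Y d0 from hY.inv h hh h1 d0]
      exact ⟨Finset.mem_univ _, hYd⟩
    · simp only [T1, Finset.mem_filter, Finset.mem_univ, true_and, hY.units s c]
    · ext c
      have e0 := congrArg (fun z => z.coeff 0) hcube2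
      have ec := congrArg (fun z => z.coeff c) hcube2
      simp only [AddMonoidAlgebra.coeff_add, Finsupp.add_apply, smul_mul_coeff, allE_coeff] at e0 ec ⊢
      have : a.coeff 0 = 0 := by simp [ha, indE, T1, DihedralGroup.r_zero, hY1]
      rw [this, mul_zero, zero_add] at e0
      rw [← hNβ]
      linarith
  have hklam : k1 + k2 = N + lam := by
    have : k = k1 + k2 := by
      show F.coeff 1 = _
      rw [hF, coeff_mul', sum_dihedral, hk1, hk2, hT1, hT2, Finset.natCast_card_filter,
        Finset.natCast_card_filter]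
      congr 1 <;> refine Finset.sum_congr rfl fun i _ => ?_
      · rw [mul_one, show (indD Y).coeff (DihedralGroup.r i)⁻¹ = (indD Y).coeff (DihedralGroup.r i)
          from H.symm (indD_rat hY).inv _]
        by_cases h : Y (DihedralGroup.r i) <;> simp [h]
      · rw [mul_one, show (indD Y).coeff (DihedralGroup.sr i)⁻¹ = (indD Y).coeff (DihedralGroup.sr i)
          from H.symm (indD_rat hY).inv _]
        by_cases h : Y (DihedralGroup.sr i) <;> simp [h]
    rw [← this]; ring
  have hk2pos : 0 < k2 := by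
    obtain ⟨i, hi⟩ := H.exists_sr hY.inv hY1 hYd
    rw [hk2, Int.natCast_pos, Finset.card_pos]
    exact ⟨i, by simp [T2, hi]⟩
  have hk2m : k2 < m := by
    obtain ⟨i, hi⟩ := H.exists_sr hW.inv hW1 hWq
    rw [hk2, Int.ofNat_lt]
    refine lt_of_lt_of_eq ((Finset.card_lt_iff_ne_univ T2).2 fun e => ?_) (ZMod.card m)
    have : i ∈ T2 := e ▸ Finset.mem_univ i
    exact (Finset.mem_filter.1 this).2.2 hi
  have hm8 : m = 8 ∧ β = 2 :=
    numerics (k1 := k1) (k2 := k2) (lam := lam) (c1' := T1.card) (c2' := T2.card) hk1 hk2 hβ0 hβ s2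
      (by rw [← hNβ]; exact hklam) ((Finset.card_le_univ T1).trans_eq (ZMod.card m))
      (CubeEq.main m T1 β _ hCube) hk2pos hk2m
  obtain ⟨rfl, hβ2⟩ := hm8
  obtain rfl : p = 2 := (Nat.prime_dvd_prime_iff_eq hp.prime Nat.prime_two).1
    (hp.prime.dvd_of_dvd_pow (show p ∣ 2 ^ 3 from hp.dvd))
  have h4 : q0 = 4 := torsion_eight_mem hq hq0
  have hpair := H.pair hp hq hq0 (indD_rat hY) (indD_rat hY)
  rw [hsN, hNβ, hβ2] at hpair
  have hQ := torsion_eight
  have e0 := congrArg (fun z => z.coeff 0) hpair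
  have e1 := congrArg (fun z => z.coeff 1) hpair
  have om1 : (om 8 2).coeff (1 : ZMod 8) = 0 := by
    rw [om, AddMonoidAlgebra.coeff_sub, Finsupp.sub_apply, smul_mul_coeff, hQ]
    simp [indE, AddMonoidAlgebra.one_def, Finsupp.single_apply, show (1 : ZMod 8) ≠ 0 by decide,
      show (1 : ZMod 8) ≠ 4 by decide, show (0 : ZMod 8) ≠ 1 by decide]
  simp only [smul_mul_coeff, om_coeff_zero hp, om1] at e0 e1
  simp only [mul_om_coeff, hQ,
    Finset.sum_insert (show (0 : ZMod 8) ∉ ({4} : Finset (ZMod 8)) by decide), Finset.sum_singleton,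
    rev_mul_coeff, c2_coeff, indD_coeff, sub_zero, zero_sub, add_zero, mul_zero, neg_zero,
    show (-4 : ZMod 8) = 4 by decide, show (1 - 4 : ZMod 8) = 5 by decide] at e0 e1
  push_cast at e0 e1
  refine no_transversal (fun i => decide (Y (DihedralGroup.sr i))) ⟨?_, ?_⟩
  · simp only [decide_eq_true_eq, mul_sub, Finset.sum_sub_distrib]
    refine Eq.trans ?_ (show ((4 : ℕ) : ℤ) = 4 by norm_num)
    push_cast
    convert (show (∑ i : ZMod 8, (if Y (DihedralGroup.sr i) then (1 : ℤ) else 0) *
        if Y (DihedralGroup.sr i) then 1 else 0) - ∑ i : ZMod 8,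
        (if Y (DihedralGroup.sr i) then (1 : ℤ) else 0) *
          (if Y (DihedralGroup.sr (i + 4)) then 1 else 0) = 4 by linarith [e0]) using 4
  · simp only [decide_eq_true_eq, mul_sub, Finset.sum_sub_distrib]
    convert (show (∑ i : ZMod 8, (if Y (DihedralGroup.sr i) then (1 : ℤ) else 0) *
        if Y (DihedralGroup.sr (i + 1)) then 1 else 0) - ∑ i : ZMod 8,
        (if Y (DihedralGroup.sr i) then (1 : ℤ) else 0) *
          (if Y (DihedralGroup.sr (i + 5)) then 1 else 0) = 0 by linarith [e1]) using 4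

end CfsgLib.Perm.DihedralBGroup
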