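import Cfsg.Agent.Lib.Perm.DihedralBGroup.Frobenius

/-!
The rational part of the transitivity module: invariant functions whose restriction to the rotations
depends on the order only. It is closed under multiplication, and its members are constant on the
cosets of the subgroup of order `p` outside that subgroup.
-/

set_option autoImplicit false
set_option linter.unusedSectionVars false

namespace CfsgLib.Perm.DihedralBGroup

variable {m : ℕ} [NeZero m] {K : Subgroup (Equiv.Perm (DihedralGroup m))}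

/-- Rational invariant functions. -/
structure Rat' {α : Type*} (K : Subgroup (Equiv.Perm (DihedralGroup m)))
    (f : DihedralGroup m → α) : Prop where
  inv : Inv K f
  units : ∀ (s : (ZMod m)ˣ) (c : ZMod m),
    f (DihedralGroup.r ((s : ZMod m) * c)) = f (DihedralGroup.r c)

theorem Rat'.comp {α β : Type*} {f : DihedralGroup m → α} (hf : Rat' K f) (g : α → β) :
    Rat' K fun x => g (f x) :=
  ⟨hf.inv.comp g, fun s c => congrArg g (hf.units s c)⟩

theorem Rat'.comp₂ {α β γ : Type*} {f : DihedralGroup m → α} {f' : DihedralGroup m → β}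
    (hf : Rat' K f) (hf' : Rat' K f') (g : α → β → γ) : Rat' K fun x => g (f x) (f' x) :=
  ⟨hf.inv.comp₂ hf'.inv g, fun s c => by simp only [hf.units s c, hf'.units s c]⟩

theorem rat_delta {α : Type*} (a b : α) : Rat' K fun x => if x = 1 then a else b := by
  refine ⟨inv_delta a b, fun s c => ?_⟩
  simp only [DihedralGroup.one_def, DihedralGroup.r.injEq, Units.mul_right_eq_zero]

/-- Elements of equal order in a finite cyclic group differ by a unit. -/
theorem exists_unit_of_addOrderOf_eq {c c' : ZMod m} (h : addOrderOf c = addOrderOf c') :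
    ∃ s : (ZMod m)ˣ, (s : ZMod m) * c = c' := by
  classical
  have hmem : ∀ {z x : ZMod m}, addOrderOf z • x = 0 → x ∈ AddSubgroup.zmultiples z := by
    intro z x hx
    set S := Finset.univ.filter fun y : ZMod m => addOrderOf z • y = 0 with hS
    set T := Finset.univ.filter fun y : ZMod m => y ∈ AddSubgroup.zmultiples z with hT
    have hTS : T ⊆ S := by
      intro y hy
      obtain ⟨i, rfl⟩ := (Finset.mem_filter.1 hy).2
      refine Finset.mem_filter.2 ⟨Finset.mem_univ _, ?_⟩
      show addOrderOf z • i • z = 0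
      rw [smul_comm, addOrderOf_nsmul_eq_zero, smul_zero]
    have hc : S.card ≤ T.card := by
      refine le_trans (IsAddCyclic.card_nsmul_eq_zero_le (addOrderOf_pos z)) (le_of_eq ?_)
      rw [← Nat.card_zmultiples, Nat.card_eq_fintype_card, Fintype.card_subtype]
    have h2 : x ∈ S := Finset.mem_filter.2 ⟨Finset.mem_univ x, hx⟩
    rw [← Finset.eq_of_subset_of_card_le hTS hc] at h2
    exact (Finset.mem_filter.1 h2).2
  have hex : ∀ {z x : ZMod m}, addOrderOf z = addOrderOf x → ∃ a : ℕ, a • z = x := fun {z x} e =>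
    mem_zmultiples_iff_mem_range_addOrderOf.1 (hmem (e ▸ addOrderOf_nsmul_eq_zero x)) |>
      fun hx => by
        obtain ⟨a, -, ha⟩ := Finset.mem_image.1 hx
        exact ⟨a, ha⟩
  obtain ⟨a, ha⟩ := hex h
  obtain ⟨b, hb⟩ := hex h.symm
  set d := addOrderOf c with hd
  have hdm : d ∣ m := by
    rw [hd]
    exact addOrderOf_dvd_of_nsmul_eq_zero (by rw [nsmul_eq_mul, ZMod.natCast_self, zero_mul])
  have hab : (a : ZMod d) * (b : ZMod d) = 1 := by
    rw [← Nat.cast_mul, ← Nat.cast_one, ZMod.natCast_eq_natCast_iff, mul_comm, hd,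
      ← nsmul_eq_nsmul_iff_modEq, one_nsmul, mul_nsmul', ha, hb]
  haveI : NeZero d := ⟨(addOrderOf_pos c).ne'⟩
  obtain ⟨s, hs⟩ := ZMod.unitsMap_surjective hdm (Units.mkOfMulEqOne (a : ZMod d) b hab)
  refine ⟨s, ?_⟩
  have h1 : ((s : ZMod m).val : ZMod d) = (a : ZMod d) := by
    have := congrArg Units.val hs
    rw [ZMod.unitsMap_def, Units.coe_map] at this
    rw [ZMod.natCast_val]
    simpa using this
  rw [← ZMod.natCast_zmod_val (s : ZMod m), ← nsmul_eq_mul, ← ha]
  exact nsmul_eq_nsmul_iff_modEq.2 ((ZMod.natCast_eq_natCast_iff _ _ _).1 h1)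

theorem Rat'.eq_of_order {α : Type*} {f : DihedralGroup m → α} (hf : Rat' K f) {c c' : ZMod m}
    (h : addOrderOf c = addOrderOf c') : f (DihedralGroup.r c) = f (DihedralGroup.r c') := by
  obtain ⟨s, rfl⟩ := exists_unit_of_addOrderOf_eq h
  exact (hf.units s c).symm

/-- The reduction of coefficients in the group algebra. -/
noncomputable abbrev redD {R R' : Type*} [CommRing R] [CommRing R'] (f : R →+* R') (m : ℕ)
    [NeZero m] : MonoidAlgebra R (DihedralGroup m) →+* MonoidAlgebra R' (DihedralGroup m) :=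
  MonoidAlgebra.mapRingHom (DihedralGroup m) f

theorem redD_coeff {R R' : Type*} [CommRing R] [CommRing R'] (f : R →+* R')
    (x : MonoidAlgebra R (DihedralGroup m)) (d : DihedralGroup m) :
    (redD f m x).coeff d = f (x.coeff d) := by
  simp [redD]

theorem InvE.redD {R R' : Type*} [CommRing R] [CommRing R'] {f : R →+* R'}
    {x : MonoidAlgebra R (DihedralGroup m)} (hx : InvE K x) : InvE K (redD f m x) :=
  fun h hh h1 d => by
    simp only [redD_coeff]
    exact congrArg f (hx h hh h1 d)

/-- The rotation part of a `q`-th power in characteristic `q`. -/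
theorem Hyp.c1_pow_char (H : Hyp K) {q : ℕ} [hq : Fact q.Prime] (hodd : Odd q)
    {x : MonoidAlgebra (ZMod q) (DihedralGroup m)} (hx : InvE K x) :
    c1 (x ^ q) = c1 x ^ q := by
  obtain ⟨E0, E1, hE⟩ := exists_universal hq.out hodd
  rw [(H.coord_pow hx q).1, (hE _ _ _).1]
  simp [CharP.cast_eq_zero]

theorem Hyp.coeff_pow_char (H : Hyp K) {q : ℕ} [hq : Fact q.Prime] (hodd : Odd q)
    {x : MonoidAlgebra (ZMod q) (DihedralGroup m)} (hx : InvE K x) (y : ZMod m) :
    (x ^ q).coeff (DihedralGroup.r y) =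
      ∑ c ∈ Finset.univ.filter fun c => q • c = y, x.coeff (DihedralGroup.r c) := by
  classical
  rw [← c1_coeff, H.c1_pow_char hodd hx]
  have := frob_coeff (c1 x) 1 y
  rw [pow_one] at this
  simpa using this

theorem Hyp.coeff_pow_char_unit (H : Hyp K) {q : ℕ} [hq : Fact q.Prime] (hodd : Odd q)
    {x : MonoidAlgebra (ZMod q) (DihedralGroup m)} (hx : InvE K x) {s : (ZMod m)ˣ}
    (hs : (q : ZMod m) = s) (c : ZMod m) :
    (x ^ q).coeff (DihedralGroup.r ((s : ZMod m) * c)) = x.coeff (DihedralGroup.r c) := by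
  classical
  rw [H.coeff_pow_char hodd hx, show (Finset.univ.filter fun e : ZMod m => q • e = (s : ZMod m) * c) =
    {c} by ext e; simp [hs, Units.mul_right_inj], Finset.sum_singleton]

theorem exists_prime_congr (s : (ZMod m)ˣ) (B : ℕ) :
    ∃ q : ℕ, q.Prime ∧ Odd q ∧ B < q ∧ (q : ZMod m) = s := by
  obtain ⟨q, hgt, hq, hs⟩ := Nat.forall_exists_prime_gt_and_eq_mod (Units.isUnit s) (max B 2)
  exact ⟨q, hq, hq.odd_of_ne_two (by omega), by omega, hs⟩

/-- Rational elements. -/
def RatE (K : Subgroup (Equiv.Perm (DihedralGroup m))) (x : MonoidAlgebra ℤ (DihedralGroup m)) :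
    Prop :=
  Rat' K fun d => x.coeff d

/-- The rational elements are closed under multiplication. -/
theorem Hyp.ratE_mul (H : Hyp K) {x y : MonoidAlgebra ℤ (DihedralGroup m)} (hx : RatE K x)
    (hy : RatE K y) : RatE K (x * y) := by
  have hI : InvE K (x * y) := H.invE_mul hx.inv hy.inv
  refine ⟨hI, fun s c => ?_⟩
  set u := (x * y).coeff (DihedralGroup.r ((s : ZMod m) * c))
  set v := (x * y).coeff (DihedralGroup.r c)
  obtain ⟨q, hq, hodd, hB, hs⟩ := exists_prime_congr s (u - v).natAbs
  haveI := Fact.mk hq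
  let φ := redD (Int.castRingHom (ZMod q)) m
  have hfix : ∀ z, RatE K z → φ z ^ q = φ z := by
    intro z hz
    refine H.invE_ext (H.invE_pow (InvE.redD hz.inv) q) (InvE.redD hz.inv) ?_
    ext i
    obtain ⟨e, rfl⟩ : ∃ e, (s : ZMod m) * e = i :=
      ⟨(↑s⁻¹ : ZMod m) * i, s.mul_inv_cancel_left i⟩
    rw [c1_coeff, c1_coeff, H.coeff_pow_char_unit hodd (InvE.redD hz.inv) hs, redD_coeff,
      redD_coeff]
    exact congrArg _ (hz.units s e).symm
  have hxy : φ (x * y) ^ q = φ (x * y) := by
    rw [map_mul, (show Commute (φ x) (φ y) from H.invE_comm (InvE.redD hx.inv) (InvE.redD hy.inv)).mul_pow,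
      hfix x hx, hfix y hy]
  have h := H.coeff_pow_char_unit hodd (InvE.redD (f := Int.castRingHom (ZMod q)) hI) hs c
  rw [show redD (Int.castRingHom (ZMod q)) m (x * y) ^ q = _ from hxy, redD_coeff, redD_coeff] at h
  change ((u : ℤ) : ZMod q) = (v : ZMod q) at h
  have h2 : (q : ℤ) ∣ u - v := by
    rw [← ZMod.intCast_zmod_eq_zero_iff_dvd, Int.cast_sub, h, sub_self]
  exact sub_eq_zero.1 (Int.eq_zero_of_dvd_of_natAbs_lt_natAbs h2 (by simpa using hB))

/-- The prime used in the reduction to rank three. -/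
structure GoodPrime (m p : ℕ) : Prop where
  prime : p.Prime
  dvd : p ∣ m
  odd : Odd p ∨ ∃ a, m = p ^ a

theorem exists_goodPrime (hm : 2 ≤ m) : ∃ p, GoodPrime m p := by
  by_cases h : ∃ p, p.Prime ∧ p ∣ m ∧ Odd p
  · obtain ⟨p, h1, h2, h3⟩ := h
    exact ⟨p, h1, h2, Or.inl h3⟩
  · push Not at h
    have heq : ∀ p, p.Prime → p ∣ m → p = 2 := fun p h1 h2 =>
      h1.eq_two_or_odd'.resolve_right (h p h1 h2)
    obtain ⟨p, hp, hpm⟩ := Nat.exists_prime_and_dvd (show m ≠ 1 by omega)
    obtain rfl := heq p hp hpm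
    exact ⟨2, hp, hpm, Or.inr ⟨_, Nat.eq_prime_pow_of_unique_prime_dvd (by omega)
      (fun {d} hd hdm => heq d hd hdm)⟩⟩

theorem addOrderOf_eq_prime' {p : ℕ} [Fact p.Prime] {q : ZMod m} (hq : p • q = 0) (hq0 : q ≠ 0) :
    addOrderOf q = p :=
  addOrderOf_eq_prime hq hq0

theorem card_torsion {p : ℕ} [hp : Fact p.Prime] (hpm : p ∣ m) :
    (Finset.univ.filter fun z : ZMod m => p • z = 0).card = p := by
  classical
  obtain ⟨j, hj⟩ := hpm
  have hj0 : 0 < j := Nat.pos_of_ne_zero fun e => NeZero.ne m (by rw [hj, e, mul_zero])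
  refine le_antisymm (IsAddCyclic.card_nsmul_eq_zero_le hp.out.pos) ?_
  refine Finset.le_card_of_inj_on_range (fun i : ℕ => ((i * j : ℕ) : ZMod m)) (fun i _ => ?_) ?_
  · refine Finset.mem_filter.2 ⟨Finset.mem_univ _, ?_⟩
    rw [nsmul_eq_mul, ← Nat.cast_mul, ZMod.natCast_eq_zero_iff]
    exact ⟨i, by rw [hj]; ring⟩
  · intro a ha b hb e
    rw [ZMod.natCast_eq_natCast_iff', Nat.mod_eq_of_lt, Nat.mod_eq_of_lt] at e
    · exact Nat.eq_of_mul_eq_mul_right hj0 e
    · rw [hj]; exact Nat.mul_lt_mul_of_pos_right hb hj0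
    · rw [hj]; exact Nat.mul_lt_mul_of_pos_right ha hj0

/-- Rational invariant functions are constant on the cosets of the subgroup of order `p` outside it. -/
theorem Hyp.rat_period (H : Hyp K) {p : ℕ} (hp : GoodPrime m p) {α : Type*}
    {f : DihedralGroup m → α} (hf : Rat' K f) {c q : ZMod m} (hc : p • c ≠ 0) (hq : p • q = 0) :
    f (DihedralGroup.r (c + q)) = f (DihedralGroup.r c) := by
  classical
  haveI := Fact.mk hp.prime
  rcases eq_or_ne q 0 with rfl | hq0
  · rw [add_zero]
  obtain ⟨a, m', hpm', hm⟩ := Nat.exists_eq_pow_mul_and_not_dvd (NeZero.ne m) p hp.prime.ne_one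
  have ha : a ≠ 0 := fun h => hpm' (by simpa [hm, h] using hp.dvd)
  have hcop : Nat.Coprime p m' := (hp.prime.coprime_iff_not_dvd).2 hpm'
  -- the case of orders divisible by `p ^ 2`
  have hbig : ∀ (α' : Type) (f' : DihedralGroup m → α'), Rat' K f' → ∀ e z : ZMod m,
      (m' * p) • e ≠ 0 → p • z = 0 → f' (DihedralGroup.r (e + z)) = f' (DihedralGroup.r e) := by
    intro α' f' hf' e z he hz
    have hpe : p ∣ addOrderOf (p • e) := by
      by_contra hnd
      refine he ?_
      rw [mul_nsmul']
      refine addOrderOf_dvd_iff_nsmul_eq_zero.1 ?_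
      refine ((hp.prime.coprime_iff_not_dvd.2 hnd).pow_left a).symm.dvd_of_dvd_mul_left ?_
      rw [← hm]
      exact addOrderOf_dvd_of_nsmul_eq_zero (by rw [nsmul_eq_mul, ZMod.natCast_self, zero_mul])
    refine hf'.eq_of_order (Nat.dvd_antisymm ?_ ?_)
    · refine addOrderOf_dvd_of_nsmul_eq_zero ?_
      obtain ⟨t, ht⟩ : p ∣ addOrderOf e := hpe.trans (addOrderOf_dvd_iff_nsmul_eq_zero.2
        (by rw [smul_comm, addOrderOf_nsmul_eq_zero, smul_zero]))
      rw [nsmul_add, addOrderOf_nsmul_eq_zero, zero_add, ht, mul_comm, mul_nsmul', hz, nsmul_zero]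
    · refine addOrderOf_dvd_of_nsmul_eq_zero ?_
      have h0 := addOrderOf_nsmul_eq_zero (e + z)
      obtain ⟨t, ht⟩ : p ∣ addOrderOf (e + z) := hpe.trans (addOrderOf_dvd_iff_nsmul_eq_zero.2 (by
        rw [show p • e = p • (e + z) by rw [nsmul_add, hz, add_zero], smul_comm, h0, smul_zero]))
      rwa [nsmul_add, show addOrderOf (e + z) • z = 0 by rw [ht, mul_comm, mul_nsmul', hz, nsmul_zero],
        add_zero] at h0
  by_cases hcase : (m' * p) • c = 0
  swap
  · let g : DihedralGroup m → Prop := fun d => f d = f (DihedralGroup.r c)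
    have h1 : g (DihedralGroup.r (c + q)) = g (DihedralGroup.r c) :=
      hbig Prop g (hf.comp fun v => v = f (DihedralGroup.r c)) c q hcase hq
    show g (DihedralGroup.r (c + q))
    rw [h1]
  -- now `p` is odd
  have hodd : Odd p := by
    refine hp.odd.resolve_right fun ⟨b, hb⟩ => ?_
    have h1 : m' ∣ p ^ b := hb ▸ hm ▸ dvd_mul_left m' _
    rw [Nat.eq_one_of_dvd_coprimes (hcop.pow_left b) h1 dvd_rfl, one_mul] at hcase
    exact hc hcase
  -- decompose `c`
  obtain ⟨i, -, hi⟩ := Nat.exists_mul_mod_eq_one_of_coprime hcop.symm hp.prime.one_lt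
  set c' := c - (i * m') • c with hc'
  set q' := (i * m') • c with hq'
  have hq'p : p • q' = 0 := by
    rw [hq', ← mul_nsmul', show p * (i * m') = i * (m' * p) by ring, mul_nsmul', hcase, nsmul_zero]
  have hc'm : m' • c' = 0 := by
    have h1 : m' * (i * m') ≡ m' [MOD m' * p] := by
      conv_rhs => rw [← mul_one m']
      refine Nat.ModEq.mul_left' m' ?_
      show i * m' % p = 1 % p
      rw [mul_comm, hi, Nat.mod_eq_of_lt hp.prime.one_lt]
    rw [hc', nsmul_sub, ← mul_nsmul', sub_eq_zero]
    exact (nsmul_eq_nsmul_iff_modEq.2 (h1.of_dvd (addOrderOf_dvd_of_nsmul_eq_zero hcase))).symm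
  have hc'0 : c' ≠ 0 := fun h => hc (by
    rw [show c = c' + q' by simp [hc', hq'], h, zero_add, hq'p])
  have hord : ∀ z, p • z = 0 → z ≠ 0 → addOrderOf (c' + z) = addOrderOf c' * p := by
    intro z hz hz0
    rw [AddCommute.addOrderOf_add_eq_mul_addOrderOf_of_coprime (AddCommute.all _ _),
      addOrderOf_eq_prime' hz hz0]
    rw [addOrderOf_eq_prime' hz hz0]
    exact (Nat.Coprime.coprime_dvd_left (addOrderOf_dvd_of_nsmul_eq_zero hc'm) hcop.symm)
  set v := f (DihedralGroup.r (c' + q)) with hv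
  have hA : ∀ z, p • z = 0 → z ≠ 0 → f (DihedralGroup.r (c' + z)) = v := fun z hz hz0 =>
    hf.eq_of_order (by rw [hord z hz hz0, hord q hq hq0])
  -- the base value agrees, by counting modulo `p`
  have hB : f (DihedralGroup.r c') = v := by
    let X : MonoidAlgebra (ZMod p) (DihedralGroup m) :=
      .ofCoeff (Finsupp.equivFunOnFinite.symm fun d => if f d = v then 1 else 0)
    have hX : Rat' K fun d => X.coeff d := by
      simpa [X] using hf.comp fun b => if b = v then (1 : ZMod p) else 0
    by_contra hne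
    obtain ⟨g, hg, g1, w, hw, hwS⟩ := H.exists_rot_order hodd hm ha hpm'
      (x := DihedralGroup.r (p • c')) (by
        rw [DihedralGroup.one_def, Ne, DihedralGroup.r.injEq]
        intro h
        rw [show p • c' = p • c by rw [hc', nsmul_sub, hq'p, sub_zero]] at h
        exact hc h)
    have hzero : (X ^ p).coeff (DihedralGroup.r w) = 0 := by
      rw [H.coeff_pow_char hodd hX.inv]
      by_cases hne' : (Finset.univ.filter fun e : ZMod m => p • e = w).Nonempty
      · obtain ⟨x0, hx0⟩ := hne'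
        have hx0' := (Finset.mem_filter.1 hx0).2
        rw [Finset.sum_bij' (t := Finset.univ.filter fun z : ZMod m => p • z = 0)
          (g := fun z => X.coeff (DihedralGroup.r x0)) (fun e _ => e - x0) (fun z _ => z + x0)
          (fun e he => Finset.mem_filter.2 ⟨Finset.mem_univ _, by
            rw [smul_sub, (Finset.mem_filter.1 he).2, hx0', sub_self]⟩)
          (fun z hz => Finset.mem_filter.2 ⟨Finset.mem_univ _, by
            rw [smul_add, (Finset.mem_filter.1 hz).2, hx0', zero_add]⟩)
          (fun e _ => sub_add_cancel e x0) (fun z _ => add_sub_cancel_right z x0)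
          (fun e he => by
            have h1 := hbig _ _ hX x0 (e - x0) (by rwa [mul_nsmul', hx0'])
              (by rw [smul_sub, hx0', (Finset.mem_filter.1 he).2, sub_self])
            rwa [add_sub_cancel] at h1)]
        rw [Finset.sum_const, card_torsion hp.dvd, nsmul_eq_mul, CharP.cast_eq_zero, zero_mul]
      · rw [Finset.not_nonempty_iff_eq_empty.1 hne', Finset.sum_empty]
    rw [← hw, show (X ^ p).coeff (g (DihedralGroup.r (p • c'))) =
      (X ^ p).coeff (DihedralGroup.r (p • c')) from
      H.invE_pow hX.inv p g hg g1 (DihedralGroup.r (p • c')), H.coeff_pow_char hodd hX.inv] at hzero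
    rw [Finset.sum_bij' (t := Finset.univ.filter fun z : ZMod m => p • z = 0)
      (g := fun z => if z = 0 then (0 : ZMod p) else 1) (fun e _ => e - c') (fun z _ => c' + z)
      (fun e he => Finset.mem_filter.2 ⟨Finset.mem_univ _, by
        rw [smul_sub, (Finset.mem_filter.1 he).2, sub_self]⟩)
      (fun z hz => Finset.mem_filter.2 ⟨Finset.mem_univ _, by
        rw [smul_add, (Finset.mem_filter.1 hz).2, add_zero]⟩)
      (fun e _ => add_sub_cancel c' e) (fun z _ => add_sub_cancel_left c' z)
      (fun e he => by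
        by_cases he0 : e - c' = 0
        · rw [if_pos he0, sub_eq_zero.1 he0]
          simp [X, hne]
        · rw [if_neg he0]
          have h1 := hA (e - c') (by rw [smul_sub, (Finset.mem_filter.1 he).2, sub_self]) he0
          rw [add_sub_cancel] at h1
          simp [X, h1])] at hzero
    have h0mem : (0 : ZMod m) ∈ Finset.univ.filter fun z : ZMod m => p • z = 0 := by simp
    rw [← Finset.add_sum_erase _ _ h0mem, if_pos rfl, zero_add,
      Finset.sum_congr rfl fun z hz => if_neg (Finset.ne_of_mem_erase hz), Finset.sum_const,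
      Finset.card_erase_of_mem h0mem,
      card_torsion hp.dvd, nsmul_one, Nat.cast_sub hp.prime.one_le, CharP.cast_eq_zero, Nat.cast_one,
      zero_sub, neg_eq_zero] at hzero
    exact one_ne_zero hzero
  have hall : ∀ z, p • z = 0 → f (DihedralGroup.r (c' + z)) = v := fun z hz => by
    rcases eq_or_ne z 0 with rfl | hz0
    · rw [add_zero, hB]
    · exact hA z hz hz0
  rw [show c + q = c' + (q' + q) by simp [hc', hq']; abel,
    show f (DihedralGroup.r c) = f (DihedralGroup.r (c' + q')) by simp [hc', hq'],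
    hall _ (by rw [nsmul_add, hq'p, hq, add_zero]), hall _ hq'p]

/-- Rational functions are constant on the nonidentity elements killed by `p`. -/
theorem Rat'.eq_on_torsion {p : ℕ} [Fact p.Prime] {α : Type*} {f : DihedralGroup m → α}
    (hf : Rat' K f) {q q' : ZMod m} (hq : p • q = 0) (hq0 : q ≠ 0) (hq' : p • q' = 0)
    (hq'0 : q' ≠ 0) : f (DihedralGroup.r q) = f (DihedralGroup.r q') :=
  hf.eq_of_order ((addOrderOf_eq_prime' hq hq0).trans (addOrderOf_eq_prime' hq' hq'0).symm)

end CfsgLib.Perm.DihedralBGroup
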